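/-
Sylow 2-subgroups of PSL(2, q), q odd, 16 ∣ q² - 1: a cyclic subgroup of index two inverted outside,
one class of involutions, and normalisers of the Sylow subgroup induce inner automorphisms on it.
-/
import Mathlib

set_option autoImplicit false

namespace Cfsg.Agent.Lib.PSLTwo.Sylow


variable {F : Type*} [Field F]

local notation "SL" => Matrix.SpecialLinearGroup (Fin 2) F

/-- The trace of an element of SL₂. -/
def slTr (g : SL) : F := g.1 0 0 + g.1 1 1

/-- The scalar -1 of SL₂. -/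
def negOne : SL := ⟨!![-1, 0; 0, -1], by simp [Matrix.det_fin_two_of]⟩

@[simp] theorem negOne_00 : (negOne : SL).1 0 0 = -1 := rfl
@[simp] theorem negOne_01 : (negOne : SL).1 0 1 = 0 := rfl
@[simp] theorem negOne_10 : (negOne : SL).1 1 0 = 0 := rfl
@[simp] theorem negOne_11 : (negOne : SL).1 1 1 = -1 := rfl

/-- An element of SL₂ given by its entries. -/
def mk2 (x y z w : F) (h : x * w - y * z = 1) : SL :=
  ⟨!![x, y; z, w], by rw [Matrix.det_fin_two_of]; exact h⟩

@[simp] theorem mk2_00 (x y z w : F) (h) : (mk2 x y z w h).1 0 0 = x := rfl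
@[simp] theorem mk2_01 (x y z w : F) (h) : (mk2 x y z w h).1 0 1 = y := rfl
@[simp] theorem mk2_10 (x y z w : F) (h) : (mk2 x y z w h).1 1 0 = z := rfl
@[simp] theorem mk2_11 (x y z w : F) (h) : (mk2 x y z w h).1 1 1 = w := rfl

theorem slExt {g h : SL} (a : g.1 0 0 = h.1 0 0) (b : g.1 0 1 = h.1 0 1)
    (c : g.1 1 0 = h.1 1 0) (d : g.1 1 1 = h.1 1 1) : g = h := by
  ext i j
  fin_cases i <;> fin_cases j <;> assumption

theorem det_eq (g : SL) : g.1 0 0 * g.1 1 1 - g.1 0 1 * g.1 1 0 = 1 := by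
  have h := g.2
  rwa [Matrix.det_fin_two] at h

theorem mul_apply' (g h : SL) (i j : Fin 2) :
    (g * h).1 i j = g.1 i 0 * h.1 0 j + g.1 i 1 * h.1 1 j := by
  simp [Matrix.SpecialLinearGroup.coe_mul, Matrix.mul_apply, Fin.sum_univ_two]

theorem inv_apply' (g : SL) : g⁻¹.1 = !![g.1 1 1, -g.1 0 1; -g.1 1 0, g.1 0 0] := by
  rw [Matrix.SpecialLinearGroup.coe_inv, Matrix.adjugate_fin_two]

theorem one_apply' : ((1 : SL)).1 = !![1, 0; 0, 1] := by
  rw [Matrix.SpecialLinearGroup.coe_one, Matrix.one_fin_two]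

theorem slTr_comm (g h : SL) : slTr (g * h) = slTr (h * g) := by
  simp [slTr, mul_apply']; ring

theorem slTr_conj (g h : SL) : slTr (h * g * h⁻¹) = slTr g := by
  rw [slTr_comm]; group

theorem slTr_inv (g : SL) : slTr g⁻¹ = slTr g := by
  simp [slTr, Matrix.adjugate_fin_two, add_comm]

theorem negOne_mul (g : SL) : (negOne * g).1 = !![-g.1 0 0, -g.1 0 1; -g.1 1 0, -g.1 1 1] := by
  ext i j; fin_cases i <;> fin_cases j <;> simp [mul_apply']

theorem negOne_central (g : SL) : negOne * g = g * negOne := by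
  apply slExt <;> simp [mul_apply']

theorem negOne_sq : (negOne : SL) * negOne = 1 := by
  apply slExt <;> simp [mul_apply', one_apply']

theorem negOne_ne_one (h2 : (2 : F) ≠ 0) : (negOne : SL) ≠ 1 := by
  intro h
  have := congrArg (fun g : SL => g.1 0 0) h
  simp at this
  exact h2 (by linear_combination -this)

theorem orderOf_negOne (h2 : (2 : F) ≠ 0) : orderOf (negOne : SL) = 2 :=
  orderOf_eq_prime (p := 2) (by rw [pow_two, negOne_sq]) (negOne_ne_one h2)

/-- Not scalar. -/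
def NonScalar (g : SL) : Prop := g.1 0 1 ≠ 0 ∨ g.1 1 0 ≠ 0 ∨ g.1 0 0 ≠ g.1 1 1

theorem scalar_cases {g : SL} (h : ¬ NonScalar g) : g = 1 ∨ g = negOne := by
  simp only [NonScalar, not_or, not_not] at h
  obtain ⟨hb, hc, hd⟩ := h
  have := det_eq g
  rw [hb, hc, ← hd] at this
  rcases mul_self_eq_one_iff.mp (show g.1 0 0 * g.1 0 0 = 1 by linear_combination this) with h1 | h1
  · left; apply slExt <;> simp [one_apply', hb, hc, ← hd, h1]
  · right; apply slExt <;> simp [hb, hc, ← hd, h1]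

theorem nonScalar_iff {g : SL} (h2 : (2 : F) ≠ 0) : NonScalar g ↔ g ≠ 1 ∧ g ≠ negOne := by
  refine ⟨fun h => ⟨?_, ?_⟩, fun h => ?_⟩
  · rintro rfl; simp [NonScalar, one_apply'] at h
  · rintro rfl; simp [NonScalar] at h
  · by_contra hn
    rcases scalar_cases hn with h1 | h1
    · exact h.1 h1
    · exact h.2 h1

theorem commute_param {a b : SL} (ha : NonScalar a) (h : b * a = a * b) :
    ∃ y : F, b.1 0 1 = y * a.1 0 1 ∧ b.1 1 0 = y * a.1 1 0 ∧
      b.1 0 0 - b.1 1 1 = y * (a.1 0 0 - a.1 1 1) := by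
  have e00 := congrArg (fun g : SL => g.1 0 0) h
  have e01 := congrArg (fun g : SL => g.1 0 1) h
  have e10 := congrArg (fun g : SL => g.1 1 0) h
  simp only [mul_apply'] at e00 e01 e10
  by_cases hq : a.1 0 1 = 0
  · by_cases hr : a.1 1 0 = 0
    · have hd : a.1 0 0 - a.1 1 1 ≠ 0 := by
        intro h0
        rcases ha with h1 | h1 | h1
        · exact h1 hq
        · exact h1 hr
        · exact h1 (sub_eq_zero.mp h0)
      refine ⟨(b.1 0 0 - b.1 1 1) / (a.1 0 0 - a.1 1 1), ?_, ?_, ?_⟩ <;> field_simp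
      · rw [hq] at e01 ⊢; linear_combination -e01
      · rw [hr] at e10 ⊢; linear_combination e10
    · refine ⟨b.1 1 0 / a.1 1 0, ?_, ?_, ?_⟩ <;> field_simp
      · linear_combination e00
      · linear_combination -e10
  · refine ⟨b.1 0 1 / a.1 0 1, ?_, ?_, ?_⟩ <;> field_simp
    · linear_combination -e00
    · linear_combination e01

/-- Centralisers of non-scalar elements are commutative. -/
theorem commute_of_commute {a b c : SL} (ha : NonScalar a) (hb : b * a = a * b)
    (hc : c * a = a * c) : b * c = c * b := by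
  obtain ⟨y, y1, y2, y3⟩ := commute_param ha hb
  obtain ⟨z, z1, z2, z3⟩ := commute_param ha hc
  apply slExt <;> simp only [mul_apply', y1, y2, z1, z2]
  · ring
  · linear_combination (z * a.1 0 1) * y3 - (y * a.1 0 1) * z3
  · linear_combination (y * a.1 1 0) * z3 - (z * a.1 1 0) * y3
  · ring

/-- A commuting element with the same trace is the element or its inverse. -/
theorem eq_or_eq_inv {a b : SL} (h2 : (2 : F) ≠ 0) (ha : NonScalar a)
    (ht : slTr a ^ 2 ≠ 4) (hb : b * a = a * b) (htr : slTr b = slTr a) : b = a ∨ b = a⁻¹ := by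
  obtain ⟨y, y1, y2, y3⟩ := commute_param ha hb
  have hD : (y ^ 2 - 1) * (slTr a ^ 2 - 4) = 0 := by
    have d1 := det_eq a
    have d2 := det_eq b
    rw [y1, y2] at d2
    simp only [slTr] at htr ⊢
    linear_combination (-4 : F) * d2 + (4 * y ^ 2) * d1 +
      (b.1 0 0 + b.1 1 1 + (a.1 0 0 + a.1 1 1)) * htr
      - (b.1 0 0 - b.1 1 1 + y * (a.1 0 0 - a.1 1 1)) * y3
  have hy : y * y = 1 := by
    rcases mul_eq_zero.mp hD with h | h
    · linear_combination h
    · exact absurd (sub_eq_zero.mp h) ht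
  simp only [slTr] at htr
  rcases mul_self_eq_one_iff.mp hy with rfl | rfl
  · left
    refine slExt ?_ (by rw [y1, one_mul]) (by rw [y2, one_mul]) ?_ <;>
      apply mul_left_cancel₀ h2
    · linear_combination htr + y3
    · linear_combination htr - y3
  · right
    refine slExt ?_ (by simp [Matrix.adjugate_fin_two, y1]) (by simp [Matrix.adjugate_fin_two, y2]) ?_ <;>
      apply mul_left_cancel₀ h2 <;> rw [inv_apply'] <;>
      simp only [Matrix.of_apply, Matrix.cons_val', Matrix.cons_val_zero, Matrix.cons_val_one, Matrix.cons_val_fin_one, Matrix.empty_val']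
    · linear_combination htr + y3
    · linear_combination htr - y3

/-- Companion element of trace t. -/
def companion (t : F) : SL := mk2 0 (-1) 1 t (by ring)

variable [Fintype F]

theorem exists_conic (hodd : Fintype.card F % 2 = 1) {D c : F} (hD : D ≠ 0) :
    ∃ u v : F, u ^ 2 - D * v ^ 2 = c := by
  obtain ⟨u, v, h⟩ := FiniteField.exists_root_sum_quadratic
    (f := Polynomial.X ^ 2 - Polynomial.C c) (g := Polynomial.C (-D) * Polynomial.X ^ 2)
    (Polynomial.degree_X_pow_sub_C (by decide) _)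
    (Polynomial.degree_C_mul_X_pow 2 (neg_ne_zero.mpr hD)) hodd
  refine ⟨u, v, ?_⟩
  simp at h
  linear_combination h

/-- Every semisimple non-scalar element is conjugate to the companion element of its trace. -/
theorem conj_companion (hodd : Fintype.card F % 2 = 1) (h2 : (2 : F) ≠ 0) {a : SL}
    (ht : slTr a ^ 2 ≠ 4) : ∃ P : SL, a * P = P * companion (slTr a) := by
  have d1 := det_eq a
  have key : ∃ x y : F,
      a.1 1 0 * x ^ 2 + (a.1 1 1 - a.1 0 0) * x * y - a.1 0 1 * y ^ 2 = 1 := by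
    by_cases hr : a.1 1 0 = 0
    · have hne : a.1 1 1 - a.1 0 0 ≠ 0 := by
        intro h0
        refine ht ?_
        simp only [slTr]
        rw [hr] at d1
        linear_combination (a.1 1 1 - a.1 0 0) * h0 + 4 * d1
      refine ⟨(1 + a.1 0 1) / (a.1 1 1 - a.1 0 0), 1, ?_⟩
      rw [hr, mul_assoc, mul_one, mul_div_cancel₀ _ hne]
      ring
    · obtain ⟨u, y, hu⟩ := exists_conic hodd (c := 4 * a.1 1 0)
        (D := slTr a ^ 2 - 4) (sub_ne_zero.mpr ht)
      simp only [slTr] at hu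
      have h2r : (2 * a.1 1 0) ≠ 0 := mul_ne_zero h2 hr
      obtain ⟨x, hx⟩ : ∃ x, u = 2 * a.1 1 0 * x + (a.1 1 1 - a.1 0 0) * y :=
        ⟨(u - (a.1 1 1 - a.1 0 0) * y) / (2 * a.1 1 0), by rw [mul_div_cancel₀ _ h2r]; ring⟩
      subst hx
      refine ⟨x, y, ?_⟩
      have h4 : (4 : F) * a.1 1 0 ≠ 0 := by
        rw [show (4 : F) = 2 * 2 by norm_num]
        exact mul_ne_zero (mul_ne_zero h2 h2) hr
      apply mul_left_cancel₀ h4
      linear_combination hu + (4 * y ^ 2) * d1
  obtain ⟨x, y, hxy⟩ := key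
  refine ⟨mk2 x (a.1 0 0 * x + a.1 0 1 * y) y (a.1 1 0 * x + a.1 1 1 * y) ?_, ?_⟩
  · linear_combination hxy
  · apply slExt <;> simp [mul_apply', companion, slTr]
    · linear_combination (-x) * d1
    · linear_combination (-y) * d1

theorem exists_conj (hodd : Fintype.card F % 2 = 1) (h2 : (2 : F) ≠ 0) {a b : SL}
    (ht : slTr a ^ 2 ≠ 4) (htr : slTr b = slTr a) : ∃ h : SL, h * a * h⁻¹ = b := by
  obtain ⟨P, hP⟩ := conj_companion hodd h2 ht
  obtain ⟨Q, hQ⟩ := conj_companion hodd h2 (a := b) (htr ▸ ht)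
  rw [htr] at hQ
  refine ⟨Q * P⁻¹, ?_⟩
  have ea : a = P * companion (slTr a) * P⁻¹ := by rw [← hP]; group
  have eb : b = Q * companion (slTr a) * Q⁻¹ := by rw [← hQ]; group
  rw [eb]
  conv_lhs => rw [ea]
  group

theorem mem_center_iff' (h2 : (2 : F) ≠ 0) {z : SL} :
    z ∈ Subgroup.center SL ↔ z = 1 ∨ z = negOne := by
  constructor
  · intro hz
    rw [Subgroup.mem_center_iff] at hz
    have hu := hz (mk2 1 1 0 1 (by ring))
    have hw := hz (mk2 1 0 1 1 (by ring))
    have u00 := congrArg (fun g : SL => g.1 0 0) hu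
    have u01 := congrArg (fun g : SL => g.1 0 1) hu
    have w00 := congrArg (fun g : SL => g.1 0 0) hw
    simp [mul_apply'] at u00 u01 w00
    apply scalar_cases
    simp only [NonScalar, not_or, not_not]
    exact ⟨w00, u00, by linear_combination -u01⟩
  · rintro (rfl | rfl)
    · exact Subgroup.one_mem _
    · exact Subgroup.mem_center_iff.mpr fun g => (negOne_central g).symm

theorem card_SL : Nat.card SL * (Fintype.card F - 1) =
    (Fintype.card F ^ 2 - 1) * (Fintype.card F ^ 2 - Fintype.card F) := by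
  classical
  let f : GL (Fin 2) F →* Fˣ := Matrix.GeneralLinearGroup.det
  have hf : Function.Surjective f := fun u => by
    refine ⟨Matrix.GeneralLinearGroup.mkOfDetNeZero !![(u : F), 0; 0, 1] ?_, ?_⟩
    · simp [Matrix.det_fin_two_of]
    · ext
      simp [f, Matrix.GeneralLinearGroup.mkOfDetNeZero, Matrix.det_fin_two_of]
  let T : SL →* GL (Fin 2) F := Matrix.SpecialLinearGroup.toGL
  have hT : Function.Injective T := Matrix.SpecialLinearGroup.toGL_injective
  have hr : T.range = f.ker := by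
    ext g
    constructor
    · rintro ⟨a, rfl⟩
      rw [MonoidHom.mem_ker]
      ext
      simp [f, T]
    · intro hg
      refine ⟨⟨g.1, ?_⟩, ?_⟩
      · have := congrArg Units.val (MonoidHom.mem_ker.mp hg)
        simpa [f] using this
      · ext i j; rfl
  have h1 := Subgroup.card_mul_index f.ker
  rw [Subgroup.index_ker, MonoidHom.range_eq_top.mpr hf, Subgroup.card_top] at h1
  have h2 : Nat.card f.ker = Nat.card SL := by
    rw [← hr]
    exact Nat.card_congr (Equiv.ofInjective T hT).symm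
  rw [h2, Nat.card_units, Nat.card_eq_fintype_card (α := F), Matrix.card_GL_field] at h1
  rw [h1, Fin.prod_univ_two]
  simp


omit [Fintype F] in
theorem sq_eq_one {g : SL} (h2 : (2 : F) ≠ 0) (h : g * g = 1) : g = 1 ∨ g = negOne := by
  have hi : g⁻¹ = g := inv_eq_of_mul_eq_one_right h
  have e := congrArg (fun x : SL => x.1) hi
  simp only [inv_apply'] at e
  apply scalar_cases
  have e00 := congrFun (congrFun e 0) 0
  have e01 := congrFun (congrFun e 0) 1
  have e10 := congrFun (congrFun e 1) 0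
  simp at e00 e01 e10
  simp only [NonScalar, not_or, not_not]
  exact ⟨mul_left_cancel₀ h2 (by linear_combination -e01),
    mul_left_cancel₀ h2 (by linear_combination -e10), e00.symm⟩

omit [Fintype F] in
theorem tr_eq_two_of_pow {g : SL} (h2 : (2 : F) ≠ 0) (ht : slTr g = 2) {j : ℕ}
    (hj : g ^ 2 ^ j = 1) : g = 1 := by
  have hN : (g.1 - 1) * (g.1 - 1) = 0 := by
    have d := det_eq g
    simp only [slTr] at ht
    ext i k
    fin_cases i <;> fin_cases k <;> simp [Matrix.mul_apply, Fin.sum_univ_two]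
    · linear_combination g.1 0 0 * ht - d
    · linear_combination g.1 0 1 * ht
    · linear_combination g.1 1 0 * ht
    · linear_combination g.1 1 1 * ht - d
  have hp : ∀ k : ℕ, g.1 ^ k = 1 + (k : F) • (g.1 - 1) := by
    intro k
    induction k with
    | zero => simp
    | succ k ih =>
      calc g.1 ^ (k + 1) = (1 + (k : F) • (g.1 - 1)) * (1 + (g.1 - 1)) := by
            rw [pow_succ, ih, add_sub_cancel]
        _ = 1 + ((k + 1 : ℕ) : F) • (g.1 - 1) := by
            rw [add_mul, one_mul, mul_add, mul_one, smul_mul_assoc, hN, smul_zero]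
            push_cast
            rw [add_smul, one_smul]; abel
  have h1 := hp (2 ^ j)
  rw [← Matrix.SpecialLinearGroup.coe_pow, hj, Matrix.SpecialLinearGroup.coe_one,
    eq_comm, add_eq_left, smul_eq_zero] at h1
  rcases h1 with h1 | h1
  · push_cast at h1
    exact absurd h1 (pow_ne_zero _ h2)
  · apply Subtype.ext
    exact sub_eq_zero.mp h1

omit [Fintype F] in
theorem tr_sq_ne_four {g : SL} (h2 : (2 : F) ≠ 0) (hg : g ≠ 1 ∧ g ≠ negOne) {j : ℕ}
    (hj : g ^ 2 ^ j = 1) : slTr g ^ 2 ≠ 4 := by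
  intro h
  rcases sq_eq_sq_iff_eq_or_eq_neg.mp (show slTr g ^ 2 = (2 : F) ^ 2 by rw [h]; norm_num) with h | h
  · exact hg.1 (tr_eq_two_of_pow h2 h hj)
  · have hc : Commute negOne g := negOne_central g
    have hj' : (negOne * g) ^ 2 ^ (j + 1) = 1 := by
      rw [hc.mul_pow, pow_succ, pow_mul, pow_mul, hj, one_pow, mul_one, ← pow_mul, mul_comm,
        pow_mul, pow_two, negOne_sq, one_pow]
    have ht : slTr (negOne * g) = 2 := by
      simp only [slTr] at h ⊢
      rw [negOne_mul g]; simp; linear_combination -h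
    have := tr_eq_two_of_pow h2 ht hj'
    apply hg.2
    calc g = (negOne * negOne) * g := by rw [negOne_sq, one_mul]
      _ = negOne := by rw [mul_assoc, this, mul_one]

omit [Fintype F] in
theorem two_ne_zero_of_odd [Fintype F] (hodd : Fintype.card F % 2 = 1) : (2 : F) ≠ 0 := by
  intro h
  have hc : ringChar F = 2 := by
    have : ringChar F ∣ 2 := ringChar.dvd (by exact_mod_cast h)
    rcases (Nat.dvd_prime Nat.prime_two).mp this with h1 | h1
    · exact absurd h1 (CharP.ringChar_ne_one)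
    · exact h1
  have := FiniteField.even_card_of_char_two hc
  omega

theorem exists_odd_pow {G : Type*} [Group G] [Finite G] (x : G) :
    ∃ r k : ℕ, r % 2 = 1 ∧ (x ^ r) ^ 2 ^ k = 1 := by
  obtain ⟨k, r, hr, h⟩ := Nat.exists_eq_two_pow_mul_odd (orderOf_pos x).ne'
  refine ⟨r, k, Nat.odd_iff.mp hr, ?_⟩
  rw [← pow_mul, mul_comm, ← h, pow_orderOf_eq_one]

theorem conj_pow_inv {G : Type*} [Group G] {h a : G} (hh : h * a * h⁻¹ = a⁻¹) :
    ∀ r : ℕ, r % 2 = 1 → h ^ r * a * (h ^ r)⁻¹ = a⁻¹ := by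
  intro r hr
  obtain ⟨l, rfl⟩ : ∃ l, r = 2 * l + 1 := ⟨r / 2, by omega⟩
  have hh' : h * a⁻¹ * h⁻¹ = a := by rw [← conj_inv, hh, inv_inv]
  have h2 : Commute (h ^ 2) a := by
    show h ^ 2 * a = a * h ^ 2
    rw [← mul_inv_eq_iff_eq_mul]
    calc h ^ 2 * a * (h ^ 2)⁻¹ = h * (h * a * h⁻¹) * h⁻¹ := by rw [pow_two]; group
      _ = h * a⁻¹ * h⁻¹ := by rw [hh]
      _ = a := hh' 
  have h3 : Commute (h ^ (2 * l)) a := by rw [pow_mul]; exact h2.pow_left l
  have h4 : Commute (h ^ (2 * l)) a⁻¹ := h3.inv_right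
  calc h ^ (2 * l + 1) * a * (h ^ (2 * l + 1))⁻¹
      = h ^ (2 * l) * (h * a * h⁻¹) * (h ^ (2 * l))⁻¹ := by rw [pow_succ]; group
    _ = a⁻¹ := by rw [hh, h4.eq, mul_inv_cancel_right]

theorem mem_normalizer_of_conj_mem {G : Type*} [Group G] [Finite G] {H : Subgroup G} {g : G}
    (h : ∀ x ∈ H, g * x * g⁻¹ ∈ H) : g ∈ Subgroup.normalizer (H : Set G) := by
  have hle : H.map (MulAut.conj g).toMonoidHom ≤ H := by
    rintro _ ⟨x, hx, rfl⟩; exact h x hx
  have he : H.map (MulAut.conj g).toMonoidHom = H :=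
    Subgroup.eq_of_le_of_card_ge hle
      (le_of_eq (Subgroup.card_map_of_injective (MulAut.conj g).injective).symm)
  rw [Subgroup.mem_normalizer_iff]
  intro x
  refine ⟨h x, fun hx => ?_⟩
  rw [← he] at hx
  obtain ⟨y, hy, hyx⟩ := hx
  have : y = x := (MulAut.conj g).injective (by simpa [MulAut.conj_apply] using hyx)
  exact this ▸ hy

theorem mem_sylow_of_normalizes {G : Type*} [Group G] [Finite G] {H : Subgroup G}
    (hH : IsPGroup 2 H) (hmax : ∀ U : Subgroup G, IsPGroup 2 U → H ≤ U → U = H) {x : G} {k : ℕ}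
    (hx : x ^ 2 ^ k = 1) (hn : ∀ y ∈ H, x * y * x⁻¹ ∈ H) : x ∈ H := by
  have hp : IsPGroup 2 (Subgroup.zpowers x) := by
    rintro ⟨y, hy⟩
    obtain ⟨i, rfl⟩ := Subgroup.mem_zpowers_iff.mp hy
    refine ⟨k, Subtype.ext ?_⟩
    show (x ^ i) ^ 2 ^ k = 1
    rw [← zpow_natCast (x ^ i), ← zpow_mul, mul_comm, zpow_mul, zpow_natCast, hx, one_zpow]
  have := hmax _ (hp.to_sup_of_normal_right' hH
    (Subgroup.zpowers_le.mpr (mem_normalizer_of_conj_mem hn))) le_sup_right
  exact this ▸ Subgroup.mem_sup_left (Subgroup.mem_zpowers x)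

set_option maxHeartbeats 4000000 in
/-- The facts about a Sylow 2-subgroup of PSL(2, q) needed for its fusion system. -/
theorem psl2_sylow (hodd : Fintype.card F % 2 = 1) (h16 : 16 ∣ Fintype.card F ^ 2 - 1)
    (S : Sylow 2 (Matrix.ProjectiveSpecialLinearGroup (Fin 2) F)) :
    (S : Subgroup (Matrix.ProjectiveSpecialLinearGroup (Fin 2) F)) ≠ ⊥ ∧
    Subgroup.closure {x : Matrix.ProjectiveSpecialLinearGroup (Fin 2) F |
      x ∈ (S : Subgroup (Matrix.ProjectiveSpecialLinearGroup (Fin 2) F)) ∧ orderOf x = 2} =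
      (S : Subgroup (Matrix.ProjectiveSpecialLinearGroup (Fin 2) F)) ∧
    (∀ x y : Matrix.ProjectiveSpecialLinearGroup (Fin 2) F, orderOf x = 2 → orderOf y = 2 →
      ∃ g, g * x * g⁻¹ = y) ∧
    ∀ n ∈ Subgroup.normalizer ((S : Subgroup (Matrix.ProjectiveSpecialLinearGroup (Fin 2) F)) :
        Set (Matrix.ProjectiveSpecialLinearGroup (Fin 2) F)),
      ∃ s ∈ (S : Subgroup (Matrix.ProjectiveSpecialLinearGroup (Fin 2) F)),
        ∀ x ∈ (S : Subgroup (Matrix.ProjectiveSpecialLinearGroup (Fin 2) F)),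
          n * x * n⁻¹ = s * x * s⁻¹ := by
  classical
  have h2 := two_ne_zero_of_odd (F := F) hodd
  let π : SL →* Matrix.ProjectiveSpecialLinearGroup (Fin 2) F :=
    QuotientGroup.mk' (Subgroup.center SL)
  have hπs : Function.Surjective π := QuotientGroup.mk'_surjective _
  have hπ1 : ∀ x : SL, π x = 1 ↔ x = 1 ∨ x = negOne := fun x => by
    rw [← mem_center_iff' h2]; exact QuotientGroup.eq_one_iff x
  haveI : Finite SL := inferInstance
  haveI : Finite (Matrix.ProjectiveSpecialLinearGroup (Fin 2) F) := Finite.of_surjective π hπs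
  let S₀ : Subgroup SL := (S : Subgroup (Matrix.ProjectiveSpecialLinearGroup (Fin 2) F)).comap π
  have hker : IsPGroup 2 π.ker := by
    rintro ⟨x, hx⟩
    refine ⟨1, Subtype.ext ?_⟩
    show x ^ 2 ^ 1 = 1
    rcases (hπ1 x).mp hx with rfl | rfl
    · simp
    · rw [pow_one, pow_two, negOne_sq]
  have hS0 : IsPGroup 2 S₀ := S.isPGroup'.comap_of_ker_isPGroup π hker
  have hmax : ∀ U : Subgroup SL, IsPGroup 2 U → S₀ ≤ U → U = S₀ := by
    intro U hU hle
    refine le_antisymm ?_ hle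
    have := S.is_maximal' (hU.map π)
      (by rw [← Subgroup.map_comap_eq_self_of_surjective hπs S.1]; exact Subgroup.map_mono hle)
    intro u hu
    show π u ∈ S.1
    rw [← this]
    exact Subgroup.mem_map_of_mem π hu
  have hneg : (negOne : SL) ∈ S₀ := by
    show π negOne ∈ S.1
    rw [(hπ1 _).mpr (Or.inr rfl)]; exact one_mem _
  have hcard : 16 ≤ Nat.card S₀ := by
    have hq : 1 < Fintype.card F := Fintype.one_lt_card
    have h := card_SL (F := F)
    have h' : Nat.card SL = (Fintype.card F ^ 2 - 1) * Fintype.card F := by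
      apply Nat.eq_of_mul_eq_mul_right (show 0 < Fintype.card F - 1 by omega)
      rw [h, mul_assoc, pow_two, Nat.mul_sub_one]
    let Q : Sylow 2 SL := ⟨S₀, hS0, fun {U} hU hle => hmax U hU hle⟩
    have := Q.pow_dvd_card_of_pow_dvd_card (n := 4) (h'.symm ▸ dvd_mul_of_dvd_left h16 _)
    exact Nat.le_of_dvd Nat.card_pos this
  have h2el : ∀ x ∈ S₀, ∃ k, x ^ 2 ^ k = 1 := by
    intro x hx
    obtain ⟨k, hk⟩ := hS0 ⟨x, hx⟩
    exact ⟨k, congrArg Subtype.val hk⟩
  -- a non-scalar element, central in S₀ modulo ±1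
  have hSne : (S : Subgroup (Matrix.ProjectiveSpecialLinearGroup (Fin 2) F)) ≠ ⊥ := by
    intro hb
    have hsub : S₀ ≤ Subgroup.zpowers negOne := by
      intro x hx
      have hx' : π x ∈ (⊥ : Subgroup _) := hb ▸ hx
      rcases (hπ1 x).mp (Subgroup.mem_bot.mp hx') with rfl | rfl
      · exact one_mem _
      · exact Subgroup.mem_zpowers _
    have h3 := Nat.le_of_dvd Nat.card_pos (Subgroup.card_dvd_of_le hsub)
    rw [Nat.card_zpowers, orderOf_negOne h2] at h3
    omega
  obtain ⟨z, hzS, hz, hzc⟩ : ∃ z ∈ S₀, (z ≠ 1 ∧ z ≠ negOne) ∧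
      ∀ u ∈ S₀, u * z * u⁻¹ = z ∨ u * z * u⁻¹ = negOne * z := by
    haveI : Nontrivial (S : Subgroup (Matrix.ProjectiveSpecialLinearGroup (Fin 2) F)) :=
      (Subgroup.nontrivial_iff_ne_bot _).mpr hSne
    have := S.isPGroup'.center_nontrivial
    obtain ⟨c, hc⟩ := exists_ne (1 : Subgroup.center (S : Subgroup (Matrix.ProjectiveSpecialLinearGroup (Fin 2) F)))
    obtain ⟨z, hz⟩ := hπs ((c.1 : S.1) : Matrix.ProjectiveSpecialLinearGroup (Fin 2) F)
    have hne : π z ≠ 1 := by
      rw [hz]; intro h; exact hc (Subtype.ext (Subtype.ext h))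
    refine ⟨z, (show π z ∈ _ from hz ▸ c.1.2), ⟨fun h => hne ((hπ1 z).mpr (Or.inl h)),
      fun h => hne ((hπ1 z).mpr (Or.inr h))⟩, fun u hu => ?_⟩
    have hcom := congrArg Subtype.val (Subgroup.mem_center_iff.mp c.2 ⟨π u, hu⟩)
    have h1 : π (u * z * u⁻¹ * z⁻¹) = 1 := by
      simp only [map_mul, map_inv, hz]
      rw [show π u * (c.1 : S.1) = (c.1 : S.1) * π u from hcom]; group
    rcases (hπ1 _).mp h1 with h | h
    · left; rwa [mul_inv_eq_one] at h
    · right; rwa [mul_inv_eq_iff_eq_mul] at h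
  have hzns : NonScalar z := (nonScalar_iff h2).mpr hz
  -- a generator of the centraliser of z in S₀
  haveI : Nonempty {x : SL // x ∈ S₀ ∧ x * z = z * x} := ⟨⟨1, one_mem _, by simp⟩⟩
  obtain ⟨⟨a, haS, haz⟩, hamax⟩ :=
    Finite.exists_max (fun x : {x : SL // x ∈ S₀ ∧ x * z = z * x} => orderOf x.1)
  have hpw : ∀ x ∈ S₀, ∃ k, orderOf x = 2 ^ k := by
    intro x hx
    obtain ⟨k, hk⟩ := h2el x hx
    obtain ⟨i, -, hi⟩ := (Nat.dvd_prime_pow Nat.prime_two).mp (orderOf_dvd_of_pow_eq_one hk)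
    exact ⟨i, hi⟩
  have hn3 : 3 ≤ orderOf z := by
    obtain ⟨k, hk⟩ := hpw z hzS
    rw [hk]
    by_contra hlt
    rcases k with _ | _ | k
    · exact hz.1 (orderOf_eq_one_iff.mp hk)
    · have := pow_orderOf_eq_one z
      rw [hk] at this
      rcases sq_eq_one h2 (g := z) (by rw [← pow_two]; simpa using this) with h | h
      · exact hz.1 h
      · exact hz.2 h
    · have : 2 ^ 2 ≤ 2 ^ (k + 1 + 1) := Nat.pow_le_pow_right (by norm_num) (by omega)
      omega
  obtain ⟨m, hm⟩ := hpw a haS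
  have han : 3 ≤ orderOf a := hn3.trans (hamax ⟨z, hzS, rfl⟩)
  have hm1 : 2 ≤ m := by
    by_contra h
    have : 2 ^ m ≤ 2 ^ 1 := Nat.pow_le_pow_right (by norm_num) (by omega)
    omega
  have hnegA : (negOne : SL) ∈ Subgroup.zpowers a := by
    have hne : a ^ 2 ^ (m - 1) ≠ 1 := by
      intro h
      have := Nat.le_of_dvd (by positivity) (orderOf_dvd_of_pow_eq_one h)
      have : 2 ^ (m - 1) < 2 ^ m := Nat.pow_lt_pow_right (by norm_num) (by omega)
      omega
    have hsq : a ^ 2 ^ (m - 1) * a ^ 2 ^ (m - 1) = 1 := by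
      rw [← pow_two, ← pow_mul, ← pow_succ, Nat.sub_add_cancel (by omega), ← hm, pow_orderOf_eq_one]
    rcases sq_eq_one h2 hsq with h | h
    · exact absurd h hne
    · rw [← h]; exact Subgroup.npow_mem_zpowers a _
  have hgen : ∀ k : ℕ, ∀ x ∈ S₀, x * z = z * x → x ^ 2 ^ k = 1 → x ∈ Subgroup.zpowers a := by
    intro k
    induction k with
    | zero => intro x _ _ hx; simp at hx; subst hx; exact one_mem _
    | succ k ih =>
      intro x hx hxz hxk
      have hsq : x ^ 2 ∈ Subgroup.zpowers a :=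
        ih _ (S₀.pow_mem hx 2) (Commute.pow_left hxz 2)
          (by rw [← pow_mul, mul_comm, ← pow_succ]; exact hxk)
      obtain ⟨i, hi⟩ := Subgroup.mem_zpowers_iff.mp hsq
      have hxa : Commute x a := commute_of_commute hzns hxz haz
      rcases Int.even_or_odd i with ⟨l, rfl⟩ | ho
      · have hy : (x * a ^ (-l)) * (x * a ^ (-l)) = 1 := by
          rw [← pow_two, (hxa.zpow_right (-l)).mul_pow, ← hi, ← zpow_natCast (a ^ (-l)), ← zpow_mul,
            ← zpow_add]
          convert zpow_zero a using 2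
          push_cast; ring
        have hxe : x = x * a ^ (-l) * a ^ l := by group
        rw [hxe]
        refine Subgroup.mul_mem _ ?_ (Subgroup.zpow_mem_zpowers a l)
        rcases sq_eq_one h2 hy with h | h <;> rw [h]
        · exact one_mem _
        · exact hnegA
      · exfalso
        have hle : Subgroup.zpowers a ≤ Subgroup.zpowers (x ^ 2) := by
          rw [Subgroup.zpowers_le, ← hi]
          have hcop : IsCoprime i ((2 : ℤ) ^ m) := by
            apply IsCoprime.pow_right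
            obtain ⟨l, rfl⟩ := ho
            exact ⟨1, -l, by ring⟩
          obtain ⟨u, v, huv⟩ := hcop
          refine Subgroup.mem_zpowers_iff.mpr ⟨u, ?_⟩
          rw [← zpow_mul, show i * u = 1 + (-v) * (2 : ℤ) ^ m by linear_combination huv, zpow_add,
            zpow_one, mul_comm (-v), zpow_mul,
            show ((2 : ℤ) ^ m) = ((2 ^ m : ℕ) : ℤ) by push_cast; rfl,
            zpow_natCast, ← hm, pow_orderOf_eq_one, one_zpow, mul_one]
        have h1 := Nat.le_of_dvd Nat.card_pos (Subgroup.card_dvd_of_le hle)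
        rw [Nat.card_zpowers, Nat.card_zpowers, orderOf_pow] at h1
        obtain ⟨kx, hkx⟩ := hpw x hx
        have h5 : orderOf x ≤ orderOf a := hamax ⟨x, hx, hxz⟩
        have h3 : 1 ≤ kx := by
          by_contra h
          have : kx = 0 := by omega
          subst this
          rw [pow_zero] at hkx
          rw [hkx] at h1
          simp at h1
          omega
        have hg : (orderOf x).gcd 2 = 2 :=
          Nat.gcd_eq_right (hkx ▸ dvd_pow_self 2 (by omega))
        rw [hg] at h1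
        have := Nat.div_lt_self (show 0 < orderOf x from orderOf_pos x) (show 1 < 2 by omega)
        omega
  have hA : ∀ x ∈ S₀, x * z = z * x → x ∈ Subgroup.zpowers a := fun x hx hxz => by
    obtain ⟨k, hk⟩ := h2el x hx; exact hgen k x hx hxz hk
  have hans : a ≠ 1 ∧ a ≠ negOne := by
    constructor <;> intro h <;> rw [h] at han
    · simp at han
    · rw [orderOf_negOne h2] at han; omega
  have hat : slTr a ^ 2 ≠ 4 := tr_sq_ne_four h2 hans (j := m) (by rw [← hm, pow_orderOf_eq_one])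
  have haNS : NonScalar a := (nonScalar_iff h2).mpr hans
  have hAz : ∀ x ∈ Subgroup.zpowers a, x * z = z * x := by
    intro x hx
    obtain ⟨i, rfl⟩ := Subgroup.mem_zpowers_iff.mp hx
    exact (Commute.zpow_left haz i)
  have hAS : ∀ x ∈ Subgroup.zpowers a, x ∈ S₀ := Subgroup.zpowers_le.mpr haS
  -- elements of S₀ act on a as ±1
  have hact : ∀ u ∈ S₀, u * a * u⁻¹ = a ∨ u * a * u⁻¹ = a⁻¹ := by
    intro u hu
    have hconj : (u * a * u⁻¹) * (u * z * u⁻¹) = (u * z * u⁻¹) * (u * a * u⁻¹) := by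
      calc _ = u * (a * z) * u⁻¹ := by group
        _ = u * (z * a) * u⁻¹ := by rw [show a * z = z * a from haz]
        _ = _ := by group
    have hcz : (u * a * u⁻¹) * z = z * (u * a * u⁻¹) := by
      rcases hzc u hu with h | h <;> rw [h] at hconj
      · exact hconj
      · apply mul_left_cancel (a := (negOne : SL))
        calc negOne * ((u * a * u⁻¹) * z) = (u * a * u⁻¹) * (negOne * z) := by
              rw [← mul_assoc, negOne_central (u * a * u⁻¹), mul_assoc]
          _ = negOne * z * (u * a * u⁻¹) := hconj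
          _ = _ := mul_assoc _ _ _
    obtain ⟨i, hi⟩ := Subgroup.mem_zpowers_iff.mp
      (hA _ (S₀.mul_mem (S₀.mul_mem hu haS) (S₀.inv_mem hu)) hcz)
    exact eq_or_eq_inv h2 haNS hat (by rw [← hi]; exact (Commute.zpow_self a i)) (slTr_conj a u)
  have hcent : ∀ u ∈ S₀, u * a = a * u → u ∈ Subgroup.zpowers a := by
    intro u hu hua
    refine hA u hu ?_
    exact commute_of_commute haNS hua (show z * a = a * z from haz.symm)
  have hinv : ∀ u ∈ S₀, u ∉ Subgroup.zpowers a → u * a * u⁻¹ = a⁻¹ ∧ u * u = negOne := by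
    intro u hu hua
    have h1 : u * a * u⁻¹ = a⁻¹ := (hact u hu).resolve_left fun h =>
      hua (hcent u hu (mul_inv_eq_iff_eq_mul.mp h))
    refine ⟨h1, ?_⟩
    have h2' : u ^ 2 * a = a * u ^ 2 := by
      apply mul_inv_eq_iff_eq_mul.mp
      calc u ^ 2 * a * (u ^ 2)⁻¹ = u * (u * a * u⁻¹) * u⁻¹ := by rw [pow_two]; group
        _ = u * a⁻¹ * u⁻¹ := by rw [h1]
        _ = (u * a * u⁻¹)⁻¹ := conj_inv.symm
        _ = a := by rw [h1, inv_inv]
    obtain ⟨i, hi⟩ := Subgroup.mem_zpowers_iff.mp (hcent _ (S₀.pow_mem hu 2) h2')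
    have h3 : u * (u ^ 2) * u⁻¹ = (u ^ 2)⁻¹ := by
      rw [← hi, ← zpow_neg, ← inv_zpow', ← h1, conj_zpow]
    have h4 : u ^ 2 * u ^ 2 = 1 := by
      rw [show u * u ^ 2 * u⁻¹ = u ^ 2 by group] at h3
      exact mul_eq_one_iff_eq_inv.mpr h3
    rcases sq_eq_one h2 h4 with h | h
    · rcases sq_eq_one h2 (g := u) (by rw [← pow_two]; exact h) with h' | h'
      · exact absurd (h' ▸ one_mem _) hua
      · exact absurd (h' ▸ hnegA) hua
    · rw [← pow_two]; exact h
  obtain ⟨g, hgS, hgA⟩ : ∃ g ∈ S₀, g ∉ Subgroup.zpowers a := by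
    by_contra hno
    push Not at hno
    obtain ⟨h, hh⟩ := exists_conj hodd h2 hat (slTr_inv a)
    obtain ⟨r, k, hr, hk⟩ := exists_odd_pow h
    have hi := conj_pow_inv hh r hr
    have hmem : h ^ r ∈ S₀ := mem_sylow_of_normalizes hS0 hmax hk fun y hy => by
      obtain ⟨i, rfl⟩ := Subgroup.mem_zpowers_iff.mp (hno y hy)
      rw [← conj_zpow, hi]
      exact S₀.zpow_mem (S₀.inv_mem haS) i
    obtain ⟨i, hi'⟩ := Subgroup.mem_zpowers_iff.mp (hno _ hmem)
    rw [← hi', (Commute.zpow_self a i).eq, mul_inv_cancel_right] at hi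
    have : orderOf a ∣ 2 := orderOf_dvd_of_pow_eq_one (by rw [pow_two]; exact mul_eq_one_iff_eq_inv.mpr hi)
    have := Nat.le_of_dvd (by norm_num) this
    omega
  obtain ⟨hga, hgg⟩ := hinv g hgS hgA
  have hcoset : ∀ u ∈ S₀, u ∈ Subgroup.zpowers a ∨ ∃ i : ℤ, u = a ^ i * g := by
    intro u hu
    by_cases hua : u ∈ Subgroup.zpowers a
    · exact Or.inl hua
    right
    have h1 := (hinv u hu hua).1
    have hc : (u * g⁻¹) * a = a * (u * g⁻¹) := by
      apply mul_inv_eq_iff_eq_mul.mp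
      have hg' : g⁻¹ * a * g = a⁻¹ := by
        calc g⁻¹ * a * g = (g⁻¹ * (g * a * g⁻¹) * g)⁻¹ := by rw [hga]; group
          _ = a⁻¹ := by group
      calc u * g⁻¹ * a * (u * g⁻¹)⁻¹ = u * (g⁻¹ * a * g) * u⁻¹ := by group
        _ = (u * a * u⁻¹)⁻¹ := by rw [hg']; group
        _ = a := by rw [h1, inv_inv]
    obtain ⟨i, hi⟩ := Subgroup.mem_zpowers_iff.mp (hcent _ (S₀.mul_mem hu (S₀.inv_mem hgS)) hc)
    exact ⟨i, by rw [hi]; group⟩
  have hn8 : 8 ≤ orderOf a := by
    have hsurj : Nat.card S₀ ≤ Nat.card (Subgroup.zpowers a × Bool) := by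
      refine Nat.card_le_card_of_surjective
        (fun p => (⟨if p.2 then (p.1 : SL) * g else p.1, by
          cases p.2
          · simpa using hAS _ p.1.2
          · simpa using S₀.mul_mem (hAS _ p.1.2) hgS⟩ : S₀)) ?_
      rintro ⟨u, hu⟩
      rcases hcoset u hu with h | ⟨i, rfl⟩
      · exact ⟨(⟨u, h⟩, false), Subtype.ext rfl⟩
      · exact ⟨(⟨a ^ i, Subgroup.zpow_mem_zpowers a i⟩, true), Subtype.ext rfl⟩
    rw [Nat.card_prod, Nat.card_zpowers, Nat.card_eq_fintype_card (α := Bool), Fintype.card_bool] at hsurj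
    omega
  have hmm : 3 ≤ m := by
    by_contra h
    have : 2 ^ m ≤ 2 ^ 2 := Nat.pow_le_pow_right (by norm_num) (by omega)
    omega
  have hinvol : ∀ u ∈ S₀, u ∉ Subgroup.zpowers a → orderOf (π u) = 2 := by
    intro u hu hua
    refine orderOf_eq_prime (by rw [pow_two, ← map_mul, (hinv u hu hua).2, (hπ1 _).mpr (Or.inr rfl)]) ?_
    intro h
    rcases (hπ1 u).mp h with rfl | rfl
    · exact hua (one_mem _)
    · exact hua hnegA
  refine ⟨hSne, ?_, ?_, ?_⟩
  · refine le_antisymm ((Subgroup.closure_le _).mpr fun x hx => hx.1) ?_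
    intro x hx
    obtain ⟨u, rfl⟩ := hπs x
    have hag : a * g ∉ Subgroup.zpowers a := fun h =>
      hgA ((Subgroup.mul_mem_cancel_left _ (Subgroup.mem_zpowers a)).mp h)
    have c1 : π g ∈ Subgroup.closure {x | x ∈ S.1 ∧ orderOf x = 2} :=
      Subgroup.subset_closure ⟨hgS, hinvol g hgS hgA⟩
    have c2 : π (a * g) ∈ Subgroup.closure {x | x ∈ S.1 ∧ orderOf x = 2} :=
      Subgroup.subset_closure ⟨S₀.mul_mem haS hgS, hinvol _ (S₀.mul_mem haS hgS) hag⟩
    have ca : π a ∈ Subgroup.closure {x | x ∈ S.1 ∧ orderOf x = 2} := by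
      have := Subgroup.mul_mem _ c2 (Subgroup.inv_mem _ c1)
      rwa [map_mul, mul_inv_cancel_right] at this
    rcases hcoset u hx with h | ⟨i, rfl⟩
    · obtain ⟨i, rfl⟩ := Subgroup.mem_zpowers_iff.mp h
      rw [map_zpow]; exact Subgroup.zpow_mem _ ca i
    · rw [map_mul, map_zpow]; exact Subgroup.mul_mem _ (Subgroup.zpow_mem _ ca i) c1
  · intro x y hx hy
    obtain ⟨u, rfl⟩ := hπs x
    obtain ⟨v, rfl⟩ := hπs y
    have key : ∀ w : SL, orderOf (π w) = 2 → slTr w = 0 := by
      intro w hw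
      have hne : π w ≠ 1 := fun h => by rw [h, orderOf_one] at hw; omega
      have h1 := pow_orderOf_eq_one (π w)
      rw [hw, ← map_pow] at h1
      rcases (hπ1 _).mp h1 with h | h
      · rcases sq_eq_one h2 (g := w) (by rw [← pow_two]; exact h) with h' | h'
        · exact absurd ((hπ1 w).mpr (Or.inl h')) hne
        · exact absurd ((hπ1 w).mpr (Or.inr h')) hne
      · have hw' : w⁻¹ = negOne * w := inv_eq_of_mul_eq_one_right (by
          rw [negOne_central w, ← mul_assoc, ← pow_two, h, negOne_sq])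
        have := congrArg (fun x : SL => x.1) hw'
        simp only [inv_apply', negOne_mul] at this
        have e00 := congrFun (congrFun this 0) 0
        simp at e00
        simp only [slTr]; linear_combination e00
    have h4 : (slTr u) ^ 2 ≠ 4 := by
      rw [key u hx, show (4 : F) = 2 * 2 by norm_num]
      simpa [eq_comm] using mul_ne_zero h2 h2
    obtain ⟨h, hh⟩ := exists_conj hodd h2 h4 (b := v) (by rw [key u hx, key v hy])
    exact ⟨π h, by rw [← hh, map_mul, map_mul, map_inv]⟩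
  · intro n hn
    obtain ⟨h, rfl⟩ := hπs n
    have hnorm : ∀ y ∈ S₀, h * y * h⁻¹ ∈ S₀ := by
      intro y hy
      show π (h * y * h⁻¹) ∈ S.1
      rw [map_mul, map_mul, map_inv]
      exact (Subgroup.mem_normalizer_iff.mp hn _).mp hy
    have hamem : h * a * h⁻¹ ∈ Subgroup.zpowers a := by
      by_contra hno
      have h1 := (hinv _ (hnorm a haS) hno).2
      have h4 : a ^ 4 = 1 := by
        have : (h * a * h⁻¹) ^ 4 = 1 := by
          rw [show 4 = 2 * 2 from rfl, pow_mul, pow_two (h * a * h⁻¹), h1, pow_two, negOne_sq]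
        rw [conj_pow] at this
        exact (mul_inv_eq_one.trans ⟨fun e => by simpa using e, fun e => by simpa using e⟩).mp this
      have := Nat.le_of_dvd (by norm_num) (orderOf_dvd_of_pow_eq_one h4)
      omega
    obtain ⟨w, hw, hwa⟩ : ∃ w ∈ S₀, (w * h) * a * (w * h)⁻¹ = a := by
      obtain ⟨i, hi⟩ := Subgroup.mem_zpowers_iff.mp hamem
      rcases eq_or_eq_inv h2 haNS hat (b := h * a * h⁻¹)
          (by rw [← hi]; exact Commute.zpow_self a i) (slTr_conj a h) with e | e
      · exact ⟨1, one_mem _, by rw [one_mul]; exact e⟩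
      · refine ⟨g, hgS, ?_⟩
        calc g * h * a * (g * h)⁻¹ = g * (h * a * h⁻¹) * g⁻¹ := by group
          _ = (g * a * g⁻¹)⁻¹ := by rw [e]; group
          _ = a := by rw [hga, inv_inv]
    obtain ⟨h', hh'⟩ : ∃ h', h' = w * h := ⟨_, rfl⟩
    rw [← hh'] at hwa
    have hnorm' : ∀ y ∈ S₀, h' * y * h'⁻¹ ∈ S₀ := fun y hy => by
      rw [hh', show w * h * y * (w * h)⁻¹ = w * (h * y * h⁻¹) * w⁻¹ by group]
      exact S₀.mul_mem (S₀.mul_mem hw (hnorm y hy)) (S₀.inv_mem hw)
    have hcom : Commute h' a := mul_inv_eq_iff_eq_mul.mp hwa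
    have hgimg : h' * g * h'⁻¹ ∉ Subgroup.zpowers a := by
      intro hm'
      obtain ⟨i, hi⟩ := Subgroup.mem_zpowers_iff.mp hm'
      have : g = a ^ i := by
        calc g = h'⁻¹ * (h' * g * h'⁻¹) * h' := by group
          _ = h'⁻¹ * (a ^ i * h') := by rw [← hi, mul_assoc]
          _ = h'⁻¹ * (h' * a ^ i) := by rw [(hcom.zpow_right i).eq]
          _ = a ^ i := by group
      exact hgA (this ▸ Subgroup.zpow_mem_zpowers a i)
    obtain ⟨i, hi⟩ := (hcoset _ (hnorm' g hgS)).resolve_left hgimg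
    have hpow : ∀ l : ℕ, h' ^ l * g * (h' ^ l)⁻¹ = a ^ (i * l) * g := by
      intro l
      induction l with
      | zero => simp
      | succ l ih =>
        calc h' ^ (l + 1) * g * (h' ^ (l + 1))⁻¹
            = h' * (h' ^ l * g * (h' ^ l)⁻¹) * h'⁻¹ := by rw [pow_succ']; group
          _ = h' * a ^ (i * l) * (g * h'⁻¹) := by rw [ih]; group
          _ = a ^ (i * l) * (h' * g * h'⁻¹) := by rw [(hcom.zpow_right _).eq]; group
          _ = a ^ (i * (l + 1 : ℕ)) * g := by
            rw [hi, ← mul_assoc, ← zpow_add]; push_cast; ring_nf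
    obtain ⟨r, k, hr, hk⟩ := exists_odd_pow h'
    have hhr : h' ^ r ∈ S₀ := mem_sylow_of_normalizes hS0 hmax hk fun y hy => by
      rcases hcoset y hy with hya | ⟨l, rfl⟩
      · obtain ⟨l, rfl⟩ := Subgroup.mem_zpowers_iff.mp hya
        rw [((hcom.pow_left r).zpow_right l).eq, mul_inv_cancel_right]
        exact S₀.zpow_mem haS l
      · have e : h' ^ r * (a ^ l * g) * (h' ^ r)⁻¹ = a ^ l * (a ^ (i * r) * g) := by
          calc h' ^ r * (a ^ l * g) * (h' ^ r)⁻¹ = a ^ l * (h' ^ r * g * (h' ^ r)⁻¹) := by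
                rw [← mul_assoc (h' ^ r), ((hcom.pow_left r).zpow_right l).eq]; group
            _ = a ^ l * (a ^ (i * r) * g) := by rw [hpow]
        rw [e]
        exact S₀.mul_mem (S₀.zpow_mem haS l) (S₀.mul_mem (S₀.zpow_mem haS _) hgS)
    obtain ⟨l, hl⟩ := Subgroup.mem_zpowers_iff.mp (hcent _ hhr (hcom.pow_left r))
    have hconjg : ∀ l : ℤ, a ^ l * g * (a ^ l)⁻¹ = a ^ (2 * l) * g := by
      intro l
      have e : g * (a ^ l)⁻¹ = a ^ l * g := by
        calc g * (a ^ l)⁻¹ = (g * a * g⁻¹) ^ (-l) * g := by rw [conj_zpow]; group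
          _ = a ^ l * g := by rw [hga, inv_zpow', neg_neg]
      rw [mul_assoc, e, ← mul_assoc, ← zpow_add, two_mul]
    have hieven : 2 ∣ i := by
      have e : a ^ (i * r) = a ^ (2 * l) := by
        have e1 := hpow r
        rw [← hl, hconjg l] at e1
        exact (mul_right_cancel e1).symm
      have hd : ((orderOf a : ℕ) : ℤ) ∣ i * r - 2 * l := by
        rw [orderOf_dvd_iff_zpow_eq_one, zpow_sub, e, mul_inv_cancel]
      have h2d : (2 : ℤ) ∣ i * r := by
        have h22 : (2 : ℤ) ∣ ((orderOf a : ℕ) : ℤ) := by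
          rw [hm]; push_cast; exact dvd_pow_self 2 (by omega)
        have := dvd_add (h22.trans hd) (dvd_mul_right 2 l)
        simpa using this
      rcases Int.prime_two.dvd_mul.mp h2d with h3 | h3
      · exact h3
      · omega
    obtain ⟨j, rfl⟩ := hieven
    refine ⟨π (w⁻¹ * a ^ j), S₀.mul_mem (S₀.inv_mem hw) (S₀.zpow_mem haS j), ?_⟩
    intro x hx
    obtain ⟨u, rfl⟩ := hπs x
    rw [← map_inv, ← map_inv, ← map_mul, ← map_mul, ← map_mul, ← map_mul]
    congr 1
    have hu : h' * u * h'⁻¹ = a ^ j * u * (a ^ j)⁻¹ := by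
      rcases hcoset u hx with hua | ⟨l', rfl⟩
      · obtain ⟨l', rfl⟩ := Subgroup.mem_zpowers_iff.mp hua
        rw [(hcom.zpow_right l').eq, mul_inv_cancel_right, ← zpow_add, ← zpow_neg, ← zpow_add]
        congr 1; ring
      · calc h' * (a ^ l' * g) * h'⁻¹ = a ^ l' * (h' * g * h'⁻¹) := by
              rw [← mul_assoc h', (hcom.zpow_right l').eq]; group
          _ = a ^ l' * (a ^ j * g * (a ^ j)⁻¹) := by rw [hi, hconjg]
          _ = a ^ j * (a ^ l' * g) * (a ^ j)⁻¹ := by group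
    calc h * u * h⁻¹ = w⁻¹ * (h' * u * h'⁻¹) * w := by rw [hh']; group
      _ = w⁻¹ * a ^ j * u * (w⁻¹ * a ^ j)⁻¹ := by rw [hu]; group


end Cfsg.Agent.Lib.PSLTwo.Sylow
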