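import Cfsg.Agent.Lib.SL2Tori.Products
import Cfsg.Agent.Lib.SL2Tori.Basic
import Cfsg.Agent.Lib.Linear.SL2
import Cfsg.Agent.Lib.Linear.Order

/-!
Centraliser orders and class sizes in `PSL₂(q)`, uniform in the characteristic.
-/

set_option autoImplicit false
set_option linter.unusedSectionVars false

namespace Cfsg.Agent.Lib.PSLTwo.ClassSize

open Cfsg.Agent.Lib.PSLTwo.Sylow Cfsg.Agent.Lib.SL2Tori Cfsg.Agent.Lib.SL2Tori.Products

variable {F : Type*} [Field F] [Fintype F]

local notation "SL" => Matrix.SpecialLinearGroup (Fin 2) F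
local notation "M2" => Matrix (Fin 2) (Fin 2) F
local notation "q" => Fintype.card F

/-- The points of the conic cutting out the norm one elements of `F[x]/(x² - t x + 1)`. -/
abbrev Conic (t : F) := {z : F × F // z.1 ^ 2 + z.1 * z.2 * t + z.2 ^ 2 = 1}

theorem nonScalar_linear {g : SL} (hg : NonScalar g) : Lib.Linear.NonScalar g := by
  intro a ha
  have e : ∀ i j, g.1 i j = (a • (1 : M2)) i j := fun i j => by rw [ha]
  rcases hg with h | h | h <;> apply h <;> simp [e]

theorem slTr_eq_trace (g : SL) : slTr g = Matrix.trace (g : M2) := (Matrix.trace_fin_two _).symm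

/-- The centraliser of a non-scalar element is the conic of its trace. -/
theorem card_torus_conic {g : SL} (hg : NonScalar g) :
    Nat.card (torus g) = Nat.card (Conic (slTr g)) := by
  have hl := nonScalar_linear hg
  let f : Conic (slTr g) → torus g := fun z =>
    ⟨⟨z.1.1 • (1 : M2) + z.1.2 • (g : M2), by
      rw [Lib.Linear.det_add_smul, ← slTr_eq_trace]; exact z.2⟩,
    mem_torus.mpr (Subtype.ext (by
      change (z.1.1 • (1 : M2) + z.1.2 • (g : M2)) * (g : M2) =
        (g : M2) * (z.1.1 • (1 : M2) + z.1.2 • (g : M2))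
      simp [add_mul, mul_add]))⟩
  refine (Nat.card_eq_of_bijective f ⟨fun z w h => ?_, fun h => ?_⟩).symm
  · have h' := congrArg (fun x : torus g => ((x : SL) : M2)) h
    obtain ⟨e1, e2⟩ := Lib.Linear.coeff_unique hl h'
    exact Subtype.ext (Prod.ext e1 e2)
  · obtain ⟨a, b, hab⟩ := Lib.Linear.exists_eq_add_smul_of_commute hl (mem_torus.mp h.2)
    refine ⟨⟨(a, b), ?_⟩, Subtype.ext (Subtype.ext hab.symm)⟩
    have hd := (h : SL).2
    rw [hab, Lib.Linear.det_add_smul, ← slTr_eq_trace] at hd
    exact hd

theorem card_conic_split {t r : F} (hr : r * r - t * r + 1 = 0) (hr2 : r * r ≠ 1) :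
    Nat.card (Conic t) = q - 1 := by
  classical
  rw [← Fintype.card_units, ← Nat.card_eq_fintype_card]
  have hr0 : r ≠ 0 := by rintro rfl; simp at hr
  have hs : r * r⁻¹ = 1 := mul_inv_cancel₀ hr0
  have hrs : r - r⁻¹ ≠ 0 := fun h => hr2 (by linear_combination r * h + hs)
  have ht : t = r + r⁻¹ := by
    apply mul_right_cancel₀ hr0
    linear_combination -hr - hs
  have key : ∀ z : Conic t, (z.1.1 + z.1.2 * r) * (z.1.1 + z.1.2 * r⁻¹) = 1 := fun z => by
    linear_combination z.2 + z.1.2 ^ 2 * hs - z.1.1 * z.1.2 * ht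
  let f : Conic t → Fˣ := fun z => ⟨_, _, key z, (mul_comm _ _).trans (key z)⟩
  refine Nat.card_eq_of_bijective f ⟨fun z w h => ?_, fun u => ?_⟩
  · have h1 : z.1.1 + z.1.2 * r = w.1.1 + w.1.2 * r := congrArg Units.val h
    have h2 : z.1.1 + z.1.2 * r⁻¹ = w.1.1 + w.1.2 * r⁻¹ :=
      congrArg (fun u : Fˣ => ((u⁻¹ : Fˣ) : F)) h
    have hb : z.1.2 = w.1.2 := mul_right_cancel₀ hrs (by linear_combination h1 - h2)
    exact Subtype.ext (Prod.ext (by rw [hb] at h1; exact add_right_cancel h1) hb)
  · obtain ⟨b, hb⟩ : ∃ b, b * (r - r⁻¹) = (u : F) - ((u⁻¹ : Fˣ) : F) :=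
      ⟨_, div_mul_cancel₀ _ hrs⟩
    refine ⟨⟨((u : F) - b * r, b), ?_⟩, Units.ext ?_⟩
    · have hu : (u : F) * ((u⁻¹ : Fˣ) : F) = 1 := by simp
      subst ht
      linear_combination hu - b ^ 2 * hs - (u : F) * hb
    · change (u : F) - b * r + b * r = (u : F)
      ring

theorem card_conic_noroot {t : F} (h : ∀ s : F, s * s + t * s + 1 ≠ 0) :
    Nat.card (Conic t) = q + 1 := by
  classical
  let a : F → F := fun s => (s * s - 1) / (s * s + t * s + 1)
  let f : Option F → Conic t := fun o => match o with
    | none => ⟨(1, -t), by ring⟩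
    | some s => ⟨(a s, s * (a s - 1)), by
        obtain ⟨A, hA⟩ : ∃ A, A * (s * s + t * s + 1) = s * s - 1 ∧ A = a s :=
          ⟨_, div_mul_cancel₀ _ (h s), rfl⟩
        rw [← hA.2]
        linear_combination (A - 1) * hA.1⟩
  have ha : ∀ s, a s * (s * s + t * s + 1) = s * s - 1 := fun s => div_mul_cancel₀ _ (h s)
  have h20 : t = 0 → (2 : F) ≠ 0 := fun ht h2 => h 1 (by rw [ht]; linear_combination h2)
  have hf : Function.Bijective f := by
    constructor
    · rintro (_ | s) (_ | s') hss
      · rfl
      · exfalso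
        have e1 : (1 : F) = a s' := congrArg (fun z : Conic t => z.1.1) hss
        have e2 : -t = s' * (a s' - 1) := congrArg (fun z : Conic t => z.1.2) hss
        have := ha s'
        rw [← e1] at this e2
        have ht : t = 0 := by linear_combination -e2
        exact h20 ht (by rw [ht] at this; linear_combination this)
      · exfalso
        have e1 : a s = 1 := congrArg (fun z : Conic t => z.1.1) hss
        have e2 : s * (a s - 1) = -t := congrArg (fun z : Conic t => z.1.2) hss
        have := ha s
        rw [e1] at this e2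
        have ht : t = 0 := by linear_combination e2
        exact h20 ht (by rw [ht] at this; linear_combination this)
      · have e1 : a s = a s' := congrArg (fun z : Conic t => z.1.1) hss
        have e2 : s * (a s - 1) = s' * (a s' - 1) := congrArg (fun z : Conic t => z.1.2) hss
        congr 1
        by_cases h1 : a s' = 1
        · have i1 := ha s
          have i2 := ha s'
          rw [e1, h1] at i1
          rw [h1] at i2
          have ht : t ≠ 0 := fun ht => h20 ht (by rw [ht] at i1; linear_combination i1)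
          exact mul_left_cancel₀ ht (by linear_combination i1 - i2)
        · rw [e1] at e2
          exact mul_right_cancel₀ (sub_ne_zero.mpr h1) e2
    · rintro ⟨⟨x, y⟩, hxy⟩
      simp only at hxy
      by_cases hx : x = 1
      · subst hx
        by_cases hy : y = 0
        · subst hy
          by_cases ht : t = 0
          · exact ⟨none, by simp [f, ht]⟩
          · refine ⟨some (-2 / t), ?_⟩
            have hst : t * (-2 / t) = -2 := mul_div_cancel₀ _ ht
            have e : a (-2 / t) = 1 :=
              (div_eq_one_iff_eq (h _)).mpr (by linear_combination -hst)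
            apply Subtype.ext
            simp [f, e]
        · refine ⟨none, Subtype.ext (Prod.ext rfl ?_)⟩
          have : y * (t + y) = 0 := by linear_combination hxy
          change -t = y
          linear_combination -((mul_eq_zero.mp this).resolve_left hy)
      · have hx1 : x - 1 ≠ 0 := sub_ne_zero.mpr hx
        obtain ⟨s, hs⟩ : ∃ s, s * (x - 1) = y := ⟨_, div_mul_cancel₀ _ hx1⟩
        refine ⟨some s, ?_⟩
        have e : a s = x := by
          rw [show a s = (s * s - 1) / (s * s + t * s + 1) from rfl, div_eq_iff (h s)]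
          apply mul_right_cancel₀ hx1
          subst hs
          linear_combination -hxy
        exact Subtype.ext (Prod.ext e (by change s * (a s - 1) = y; rw [e, hs]))
  rw [← Nat.card_eq_of_bijective f hf, Nat.card_eq_fintype_card, Fintype.card_option]

theorem card_conic_double {t z : F} (hz : z * z = 1) (ht : t = 2 * z) :
    Nat.card (Conic t) = q * Nat.card {w : F // w * w = 1} := by
  subst ht
  rw [mul_comm q, ← Nat.card_eq_fintype_card (α := F), ← Nat.card_prod]
  refine Nat.card_congr
    { toFun := fun p => (⟨p.1.1 + z * p.1.2, by linear_combination p.2 + p.1.2 ^ 2 * hz⟩, p.1.2)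
      invFun := fun w => ⟨(w.1.1 - z * w.2, w.2), by linear_combination w.1.2 - w.2 ^ 2 * hz⟩
      left_inv := fun p => by apply Subtype.ext; simp
      right_inv := fun w => by apply Prod.ext <;> simp }

theorem card_sqrt_one (h2 : (2 : F) ≠ 0) : Nat.card {w : F // w * w = 1} = 2 := by
  rw [Nat.card_eq_two_iff]
  refine ⟨⟨1, one_mul 1⟩, ⟨-1, by ring⟩, fun h => h2 ?_, ?_⟩
  · linear_combination congrArg Subtype.val h
  · ext ⟨w, hw⟩
    simp [mul_self_eq_one_iff.mp hw]

theorem card_sqrt_one_two (h2 : (2 : F) = 0) : Nat.card {w : F // w * w = 1} = 1 := by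
  rw [Nat.card_eq_one_iff_unique]
  refine ⟨⟨fun x y => Subtype.ext ?_⟩, ⟨⟨1, one_mul 1⟩⟩⟩
  have key : ∀ w : F, w * w = 1 → w = 1 := fun w hw => by
    have : (w - 1) * (w - 1) = 0 := by linear_combination hw + (1 - w) * h2
    exact sub_eq_zero.mp (mul_self_eq_zero.mp this)
  rw [key _ x.2, key _ y.2]

/-- The three kinds of trace. -/
theorem card_torus_cases {g : SL} (hg : NonScalar g) :
    (slTr g ^ 2 = 4 ∧ Nat.card (torus g) = q * Nat.card {w : F // w * w = 1}) ∨
    (slTr g ^ 2 ≠ 4 ∧ (∃ r : F, r ≠ 0 ∧ r * r ≠ 1 ∧ slTr g = r + r⁻¹) ∧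
      Nat.card (torus g) = q - 1) ∨
    (slTr g ^ 2 ≠ 4 ∧ (∀ r : F, r ≠ 0 → slTr g ≠ r + r⁻¹) ∧ Nat.card (torus g) = q + 1) := by
  rw [card_torus_conic hg]
  generalize slTr g = t
  by_cases h : ∃ r : F, r * r - t * r + 1 = 0
  · obtain ⟨r, hr⟩ := h
    have hr0 : r ≠ 0 := by rintro rfl; simp at hr
    have ht : t = r + r⁻¹ := by
      apply mul_right_cancel₀ hr0
      rw [add_mul, inv_mul_cancel₀ hr0]
      linear_combination -hr
    by_cases hr2 : r * r = 1
    · left
      have ht2 : t = 2 * r := by rw [ht, inv_eq_of_mul_eq_one_right hr2, two_mul]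
      exact ⟨by rw [ht2]; linear_combination 4 * hr2, card_conic_double hr2 ht2⟩
    · refine Or.inr (Or.inl ⟨fun h4 => ?_, ⟨r, hr0, hr2, ht⟩, card_conic_split hr hr2⟩)
      have hi : r * r⁻¹ = 1 := mul_inv_cancel₀ hr0
      have : (r - r⁻¹) * (r - r⁻¹) = 0 := by rw [ht] at h4; linear_combination h4 - 4 * hi
      exact hr2 (by linear_combination r * mul_self_eq_zero.mp this + hi)
  · simp only [not_exists] at h
    have hno : ∀ s : F, s * s + t * s + 1 ≠ 0 := fun s hs => h (-s) (by linear_combination hs)
    refine Or.inr (Or.inr ⟨fun h4 => ?_, fun r hr0 ht => ?_, card_conic_noroot hno⟩)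
    · by_cases h2 : (2 : F) = 0
      · have : t = 0 := mul_self_eq_zero.mp (by linear_combination h4 + 2 * h2)
        exact h 1 (by rw [this]; linear_combination h2)
      · exact h (t / 2) (by field_simp; linear_combination -h4)
    · exact h r (by rw [ht, add_mul, inv_mul_cancel₀ hr0]; ring)

/-- The preimage in `SL₂` of a centraliser in `PSL₂`. -/
def pre (g : Matrix.SpecialLinearGroup (Fin 2) F) : Subgroup (Matrix.SpecialLinearGroup (Fin 2) F) :=
  (Subgroup.centralizer {proj g}).comap proj

theorem mem_pre {g h : SL} : h ∈ pre g ↔ h * g = g * h ∨ h * g = g * h * negOne := by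
  rw [pre, Subgroup.mem_comap, Subgroup.mem_centralizer_singleton_iff, ← map_mul, ← map_mul,
    eq_comm, proj_eq_iff]

theorem index_mul_card_pre (g : SL) :
    (Subgroup.centralizer {proj g}).index * Nat.card (pre g) = q * (q - 1) * (q + 1) := by
  rw [← Subgroup.index_comap_of_surjective _ (proj_surjective (F := F)), ← pre,
    mul_comm, Subgroup.card_mul_index, Lib.Linear.card_SL_two]

theorem pre_eq_torus {g : SL} (h : 2 * slTr g ≠ 0 ∨ (2 : F) = 0) : pre g = torus g := by
  ext x
  rw [mem_pre, mem_torus]
  refine ⟨fun hx => ?_, Or.inl⟩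
  rcases hx with hx | hx
  · exact hx
  · rcases h with h | h
    · exfalso
      have : x * g * x⁻¹ = g * negOne := by
        rw [hx, mul_assoc g x negOne, ← negOne_central, ← mul_assoc, mul_inv_cancel_right]
      have := congrArg slTr this
      rw [slTr_conj, slTr_mul_negOne] at this
      exact h (by linear_combination this)
    · have : (negOne : SL) = 1 := by
        apply slExt <;> simp [one_apply'] <;> linear_combination -h
      rw [hx, this, mul_one]

theorem card_pre_zero {g : SL} (h2 : (2 : F) ≠ 0) (ht : slTr g = 0) :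
    Nat.card (pre g) = 2 * Nat.card (torus g) := by
  have hodd : q % 2 = 1 := FiniteField.odd_card_of_char_ne_two fun h => h2 (by
    have := ringChar.charP F
    rw [h] at this
    exact_mod_cast CharP.cast_eq_zero F 2)
  have h4 : slTr g ^ 2 ≠ 4 := by
    rw [ht]
    intro h
    exact h2 (mul_self_eq_zero.mp (by linear_combination -h))
  obtain ⟨w, hw⟩ := exists_conj hodd h2 h4 (b := g * negOne) (by rw [slTr_mul_negOne, ht, neg_zero])
  have hw' : w * g = g * negOne * w := by rw [← hw, inv_mul_cancel_right]
  have hne : g ≠ g * negOne := fun h => negOne_ne_one h2 (mul_eq_left.mp h.symm)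
  have hle : torus g ≤ pre g := fun x hx => mem_pre.mpr (Or.inl (mem_torus.mp hx))
  let H : Subgroup (pre g) := (torus g).subgroupOf (pre g)
  have hwp : w ∈ pre g := mem_pre.mpr (Or.inr (by
    rw [hw', mul_assoc, negOne_central, ← mul_assoc]))
  have hi : H.index = 2 := by
    rw [Subgroup.index_eq_two_iff]
    refine ⟨⟨w, hwp⟩, fun b => ?_⟩
    simp only [H, Subgroup.mem_subgroupOf, Subgroup.coe_mul, mem_torus]
    rcases mem_pre.mp b.2 with hb | hb
    · refine Or.inr ⟨hb, fun h => hne ?_⟩
      rw [mul_assoc, hw', ← mul_assoc g (b : SL) w, ← hb, mul_assoc, mul_assoc] at h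
      have := mul_left_cancel h
      rw [← mul_assoc] at this
      exact (mul_right_cancel this).symm
    · refine Or.inl ⟨?_, fun h => hne ?_⟩
      · rw [mul_assoc, hw', ← mul_assoc, ← mul_assoc, hb]
        simp only [mul_assoc]
        rw [← mul_assoc negOne negOne, negOne_sq, one_mul]
      · rw [h, mul_assoc g (b : SL) negOne, ← negOne_central, ← mul_assoc] at hb
        exact mul_right_cancel hb
  have := H.card_mul_index
  rw [hi, Nat.card_congr (Subgroup.subgroupOfEquivOfLe hle).toEquiv] at this
  rw [← this, mul_comm]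

theorem exists_nonScalar_trace (t : F) : ∃ g : SL, NonScalar g ∧ slTr g = t :=
  ⟨companion t, Or.inr (Or.inl (by simp [companion])), by simp [companion, slTr]⟩

/-- Some trace, other than `0`, is not of the form `r + r⁻¹`. -/
theorem exists_nonsplit_trace {r₀ : F} (h0 : r₀ ≠ 0) (h1 : r₀ * r₀ ≠ 1) :
    ∃ t : F, t ≠ 0 ∧ ∀ r : F, r ≠ 0 → t ≠ r + r⁻¹ := by
  classical
  let D : Finset F := (Finset.univ.erase 0).erase r₀⁻¹
  let S : Finset F := insert 0 (D.image fun r => r + r⁻¹)
  have hS : S.card < q := by
    have hD : D.card = q - 2 := by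
      rw [Finset.card_erase_of_mem (by simp [h0]), Finset.card_erase_of_mem (Finset.mem_univ _),
        Finset.card_univ]
      omega
    have := Fintype.one_lt_card (α := F)
    calc S.card ≤ (D.image fun r => r + r⁻¹).card + 1 := Finset.card_insert_le _ _
      _ ≤ D.card + 1 := Nat.add_le_add_right Finset.card_image_le 1
      _ < q := by omega
  obtain ⟨t, ht⟩ : ∃ t, t ∉ S := by
    by_contra h
    simp only [not_exists, not_not] at h
    rw [Finset.eq_univ_of_forall h, Finset.card_univ] at hS
    omega
  simp only [S, D, Finset.mem_insert, Finset.mem_image, Finset.mem_erase, Finset.mem_univ,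
    not_or, not_exists, not_and, and_true] at ht
  refine ⟨t, ht.1, fun r hr h => ?_⟩
  by_cases hr' : r = r₀⁻¹
  · refine ht.2 r₀ ⟨fun e => h1 ?_, h0⟩ ?_
    · nth_rewrite 2 [e]
      exact mul_inv_cancel₀ h0
    · rw [h, hr', inv_inv, add_comm]
  · exact ht.2 r ⟨hr', hr⟩ h.symm

theorem index_centralizer_one {G : Type*} [Group G] :
    (Subgroup.centralizer ({1} : Set G)).index = 1 := by
  rw [Subgroup.index_eq_one, eq_top_iff]
  intro x _
  rw [Subgroup.mem_centralizer_singleton_iff, mul_one, one_mul]

end Cfsg.Agent.Lib.PSLTwo.ClassSize
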