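import Cfsg.Agent.Lib.PSLTwo.ClassSize

/-! The sets of class sizes of `PSL₂(q)`. -/

set_option autoImplicit false
set_option linter.unusedSectionVars false

namespace Cfsg.Agent.Lib.PSLTwo.ClassSizeValues

open Cfsg.Agent.Lib.PSLTwo.Sylow Cfsg.Agent.Lib.PSLTwo.ClassSize
open Cfsg.Agent.Lib.SL2Tori Cfsg.Agent.Lib.SL2Tori.Products

variable {F : Type*} [Field F] [Fintype F]

local notation "SL" => Matrix.SpecialLinearGroup (Fin 2) F
local notation "PSL" => Matrix.ProjectiveSpecialLinearGroup (Fin 2) F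
local notation "q" => Fintype.card F

theorem sq_sub_one : q ^ 2 - 1 = (q - 1) * (q + 1) := by
  obtain ⟨n, hn⟩ : ∃ n, q = n + 1 := ⟨q - 1, by have := Fintype.one_lt_card (α := F); omega⟩
  rw [hn]
  have : (n + 1) ^ 2 = n * (n + 1 + 1) + 1 := by ring
  simp [this]

theorem cast_two_zero_iff : (2 : F) = 0 ↔ 2 ∣ q := by
  have hc := ringChar.charP F
  rw [Nat.dvd_iff_mod_eq_zero, ← FiniteField.even_card_iff_char_two]
  constructor
  · intro h
    have h2 : ringChar F ∣ 2 := (CharP.cast_eq_zero_iff F (ringChar F) 2).1 (by exact_mod_cast h)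
    exact (Nat.prime_dvd_prime_iff_eq (CharP.char_is_prime F (ringChar F)) Nat.prime_two).1 h2
  · intro h
    rw [h] at hc
    exact_mod_cast CharP.cast_eq_zero F 2

theorem exists_avoid (s : Finset F) (h : s.card < q) : ∃ r : F, r ∉ s := by
  by_contra hn
  simp only [not_exists, not_not] at hn
  rw [Finset.eq_univ_of_forall hn, Finset.card_univ] at h
  omega

theorem exists_r (h4 : 4 ≤ q) : ∃ r : F, r ≠ 0 ∧ r * r ≠ 1 := by
  classical
  obtain ⟨r, hr⟩ := exists_avoid ({0, 1, -1} : Finset F)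
    (lt_of_le_of_lt Finset.card_le_three (by omega))
  simp at hr
  refine ⟨r, hr.1, fun h => ?_⟩
  rcases mul_self_eq_one_iff.mp h with h | h
  · exact hr.2.1 h
  · exact hr.2.2 h

/-- An element of prescribed split trace. -/
theorem exists_split {r : F} (hr : r ≠ 0) (hr2 : r * r ≠ 1) :
    ∃ g : SL, slTr g = r + r⁻¹ ∧ Nat.card (torus g) = q - 1 := by
  obtain ⟨g, hg, hgt⟩ := exists_nonScalar_trace (r + r⁻¹)
  refine ⟨g, hgt, ?_⟩
  rw [card_torus_conic hg, hgt]
  refine card_conic_split (r := r) ?_ hr2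
  rw [add_mul, inv_mul_cancel₀ hr]
  ring

/-- An element of prescribed nonsplit trace. -/
theorem exists_nonsplit' {t : F} (ht : ∀ r : F, r ≠ 0 → t ≠ r + r⁻¹) :
    ∃ g : SL, slTr g = t ∧ Nat.card (torus g) = q + 1 := by
  obtain ⟨g, hg, hgt⟩ := exists_nonScalar_trace t
  refine ⟨g, hgt, ?_⟩
  rw [card_torus_conic hg, hgt]
  refine card_conic_noroot fun s hs => ?_
  have hs0 : s ≠ 0 := by rintro rfl; simp at hs
  refine ht (-s) (neg_ne_zero.mpr hs0) ?_
  apply mul_right_cancel₀ hs0
  rw [add_mul, inv_neg, neg_mul, neg_mul, inv_mul_cancel₀ hs0]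
  linear_combination hs

/-- A unipotent element. -/
theorem exists_unip : ∃ g : SL, slTr g = 2 ∧
    Nat.card (torus g) = q * Nat.card {w : F // w * w = 1} := by
  obtain ⟨g, hg, hgt⟩ := exists_nonScalar_trace (2 : F)
  refine ⟨g, hgt, ?_⟩
  rw [card_torus_conic hg, hgt]
  exact card_conic_double (one_mul 1) (by ring)

theorem nonScalar_of_ne {g : SL} (h1 : proj g ≠ 1) : NonScalar g := nonScalar_of_proj_ne_one h1

theorem even_range (h2 : 2 ∣ q) (h4 : 4 ≤ q) :
    Set.range (fun g : PSL => (Subgroup.centralizer ({g} : Set PSL)).index) =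
      {1, q * (q - 1), q ^ 2 - 1, q * (q + 1)} := by
  have h20 := cast_two_zero_iff.mpr h2
  have key : ∀ (g : SL) (n m : ℕ), Nat.card (torus g) = n → 0 < n →
      m * n = q * (q - 1) * (q + 1) → (Subgroup.centralizer {proj g}).index = m := by
    intro g n m hn hpos hm
    have := index_mul_card_pre g
    rw [pre_eq_torus (Or.inr h20), hn, ← hm] at this
    exact Nat.eq_of_mul_eq_mul_right hpos this
  have e1 : (q * (q + 1)) * (q - 1) = q * (q - 1) * (q + 1) := by ring
  have e3 : (q ^ 2 - 1) * q = q * (q - 1) * (q + 1) := by rw [sq_sub_one]; ring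
  apply Set.Subset.antisymm
  · rintro m ⟨x, rfl⟩
    obtain ⟨g, rfl⟩ := proj_surjective x
    by_cases h1 : proj g = 1
    · exact Or.inl (by change (Subgroup.centralizer {proj g}).index = 1
                       rw [h1]; exact index_centralizer_one)
    simp only [Set.mem_insert_iff, Set.mem_singleton_iff]
    rcases card_torus_cases (nonScalar_of_proj_ne_one h1) with ⟨-, h⟩ | ⟨-, -, h⟩ | ⟨-, -, h⟩
    · rw [card_sqrt_one_two h20, mul_one] at h
      exact Or.inr (Or.inr (Or.inl (key g _ _ h (by omega) e3)))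
    · exact Or.inr (Or.inr (Or.inr (key g _ _ h (by omega) e1)))
    · exact Or.inr (Or.inl (key g _ _ h (by omega) rfl))
  · obtain ⟨r, hr, hr2⟩ := exists_r h4
    intro m hm
    simp only [Set.mem_insert_iff, Set.mem_singleton_iff] at hm
    rcases hm with rfl | rfl | rfl | rfl
    · exact ⟨1, index_centralizer_one⟩
    · obtain ⟨t, -, ht⟩ := exists_nonsplit_trace hr hr2
      obtain ⟨g, -, hg⟩ := exists_nonsplit' ht
      exact ⟨proj g, key g _ _ hg (by omega) rfl⟩
    · obtain ⟨g, -, hg⟩ := exists_unip (F := F)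
      rw [card_sqrt_one_two h20, mul_one] at hg
      exact ⟨proj g, key g _ _ hg (by omega) e3⟩
    · obtain ⟨g, -, hg⟩ := exists_split hr hr2
      exact ⟨proj g, key g _ _ hg (by omega) e1⟩

theorem exists_r_zero (h7 : 7 ≤ q) : ∃ r : F, r ≠ 0 ∧ r * r ≠ 1 ∧ r + r⁻¹ ≠ 0 := by
  classical
  let P : Finset F := Finset.univ.filter fun r => r * r = 1
  let M : Finset F := Finset.univ.filter fun r => r * r = -1
  have hb : ∀ c : F, (Finset.univ.filter fun r : F => r * r = c).card ≤ 2 := by
    intro c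
    by_cases h : ∃ x : F, x * x = c
    · obtain ⟨x, hx⟩ := h
      refine le_trans (Finset.card_le_card (t := {x, -x}) fun r hr => ?_) Finset.card_le_two
      simp only [Finset.mem_filter, Finset.mem_univ, true_and] at hr
      simpa using mul_self_eq_mul_self_iff.mp (hr.trans hx.symm)
    · rw [Finset.filter_false_of_mem fun r _ hr => h ⟨r, hr⟩]
      simp
  obtain ⟨r, hr⟩ := exists_avoid (insert 0 (P ∪ M)) (by
    have h1 := hb 1
    have h2 := hb (-1)
    have := Finset.card_insert_le (0 : F) (P ∪ M)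
    have := Finset.card_union_le P M
    simp only [P, M] at *
    omega)
  simp [P, M] at hr
  refine ⟨r, hr.1, hr.2.1, fun h => hr.2.2 ?_⟩
  linear_combination r * h - mul_inv_cancel₀ hr.1

theorem odd_range (h2 : ¬ 2 ∣ q) (h7 : 7 ≤ q) (A : ℕ) (n0 : ℕ)
    (hA : A * (2 * n0) = q * (q - 1) * (q + 1)) (hn0 : 0 < n0)
    (hzero : ∀ g : SL, NonScalar g → slTr g = 0 → Nat.card (torus g) = n0) :
    Set.range (fun g : PSL => (Subgroup.centralizer ({g} : Set PSL)).index) =
      {1, (q ^ 2 - 1) / 2, A, q * (q - 1), q * (q + 1)} := by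
  have h20 : (2 : F) ≠ 0 := fun h => h2 (cast_two_zero_iff.mp h)
  have key : ∀ (g : SL) (n m : ℕ), slTr g ≠ 0 → Nat.card (torus g) = n → 0 < n →
      m * n = q * (q - 1) * (q + 1) → (Subgroup.centralizer {proj g}).index = m := by
    intro g n m ht hn hpos hm
    have := index_mul_card_pre g
    rw [pre_eq_torus (Or.inl (mul_ne_zero h20 ht)), hn, ← hm] at this
    exact Nat.eq_of_mul_eq_mul_right hpos this
  have key0 : ∀ g : SL, NonScalar g → slTr g = 0 → (Subgroup.centralizer {proj g}).index = A := by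
    intro g hg ht
    have := index_mul_card_pre g
    rw [card_pre_zero h20 ht, hzero g hg ht, ← hA] at this
    exact Nat.eq_of_mul_eq_mul_right (by omega) this
  have e1 : (q * (q + 1)) * (q - 1) = q * (q - 1) * (q + 1) := by ring
  have e3 : ((q ^ 2 - 1) / 2) * (q * 2) = q * (q - 1) * (q + 1) := by
    have hd : 2 ∣ q ^ 2 - 1 := by
      rw [sq_sub_one]
      exact dvd_mul_of_dvd_left (by omega) _
    rw [mul_comm q 2, ← mul_assoc, Nat.div_mul_cancel hd, sq_sub_one]
    ring
  apply Set.Subset.antisymm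
  · rintro m ⟨x, rfl⟩
    obtain ⟨g, rfl⟩ := proj_surjective x
    by_cases h1 : proj g = 1
    · exact Or.inl (by change (Subgroup.centralizer {proj g}).index = 1
                       rw [h1]; exact index_centralizer_one)
    simp only [Set.mem_insert_iff, Set.mem_singleton_iff]
    have hg := nonScalar_of_proj_ne_one h1
    by_cases ht : slTr g = 0
    · exact Or.inr (Or.inr (Or.inl (key0 g hg ht)))
    rcases card_torus_cases hg with ⟨-, h⟩ | ⟨-, -, h⟩ | ⟨-, -, h⟩
    · rw [card_sqrt_one h20] at h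
      exact Or.inr (Or.inl (key g _ _ ht h (by omega) e3))
    · exact Or.inr (Or.inr (Or.inr (Or.inr (key g _ _ ht h (by omega) e1))))
    · exact Or.inr (Or.inr (Or.inr (Or.inl (key g _ _ ht h (by omega) rfl))))
  · obtain ⟨r, hr, hr2, hr0⟩ := exists_r_zero h7
    intro m hm
    simp only [Set.mem_insert_iff, Set.mem_singleton_iff] at hm
    rcases hm with rfl | rfl | rfl | rfl | rfl
    · exact ⟨1, index_centralizer_one⟩
    · obtain ⟨g, hgt, hg⟩ := exists_unip (F := F)
      rw [card_sqrt_one h20] at hg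
      exact ⟨proj g, key g _ _ (hgt ▸ h20) hg (by omega) e3⟩
    · obtain ⟨g, hg, hgt⟩ := exists_nonScalar_trace (0 : F)
      exact ⟨proj g, key0 g hg hgt⟩
    · obtain ⟨t, ht0, ht⟩ := exists_nonsplit_trace hr hr2
      obtain ⟨g, hgt, hg⟩ := exists_nonsplit' ht
      exact ⟨proj g, key g _ _ (hgt ▸ ht0) hg (by omega) rfl⟩
    · obtain ⟨g, hgt, hg⟩ := exists_split hr hr2
      exact ⟨proj g, key g _ _ (hgt ▸ hr0) hg (by omega) e1⟩

theorem torus_zero_one (h2 : ¬ 2 ∣ q) (h : q % 4 = 1) {g : SL} (hg : NonScalar g) (ht : slTr g = 0) :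
    Nat.card (torus g) = q - 1 := by
  have h20 : (2 : F) ≠ 0 := fun e => h2 (cast_two_zero_iff.mp e)
  obtain ⟨i, hi⟩ := FiniteField.isSquare_neg_one_iff.mpr (by omega : q % 4 ≠ 3)
  rw [card_torus_conic hg, ht]
  refine card_conic_split (r := i) (by linear_combination -hi) fun e => h20 ?_
  linear_combination -e - hi

theorem torus_zero_three (h : q % 4 = 3) {g : SL} (hg : NonScalar g) (ht : slTr g = 0) :
    Nat.card (torus g) = q + 1 := by
  rw [card_torus_conic hg, ht]
  refine card_conic_noroot fun s hs => ?_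
  exact FiniteField.isSquare_neg_one_iff.mp ⟨s, by linear_combination -hs⟩ h

end Cfsg.Agent.Lib.PSLTwo.ClassSizeValues
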