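import Cfsg.Agent.Lib.PSLTwo.ClassSizeValues

/-! `SL₂(2^t) = ABA` with `A` a nonsplit torus and `B` the upper unitriangular group. -/

set_option autoImplicit false
set_option linter.unusedSectionVars false

namespace Cfsg.Agent.Lib.PSLTwo.TripleFactor

open Cfsg.Agent.Lib.PSLTwo.Sylow Cfsg.Agent.Lib.PSLTwo.ClassSize
open Cfsg.Agent.Lib.SL2Tori Cfsg.Agent.Lib.SL2Tori.Products

variable {F : Type*} [Field F] [Fintype F]

local notation "SL" => Matrix.SpecialLinearGroup (Fin 2) F
local notation "M2" => Matrix (Fin 2) (Fin 2) F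
local notation "q" => Fintype.card F

/-- Upper unitriangular elements. -/
def uu : Multiplicative F →* Matrix.SpecialLinearGroup (Fin 2) F where
  toFun c := mk2 1 c.toAdd 0 1 (by ring)
  map_one' := by apply slExt <;> simp [one_apply']
  map_mul' a b := by apply slExt <;> simp [mul_apply', add_comm]

theorem uu_injective : Function.Injective (uu (F := F)) := fun a b h =>
  congrArg (fun g : SL => Multiplicative.ofAdd (g.1 0 1)) h

theorem exists_sqrt (h2 : (2 : F) = 0) (a : F) : ∃ c : F, c * c = a := by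
  have hc : ringChar F = 2 := by
    have := ringChar.charP F
    have h : ringChar F ∣ 2 := (CharP.cast_eq_zero_iff F (ringChar F) 2).1 (by exact_mod_cast h2)
    exact (Nat.prime_dvd_prime_iff_eq (CharP.char_is_prime F (ringChar F)) Nat.prime_two).1 h
  obtain ⟨c, hc⟩ := FiniteField.isSquare_of_char_two hc a
  exact ⟨c, hc.symm⟩

theorem factor (h2 : (2 : F) = 0) {t : F} (hno : ∀ s : F, s * s + t * s + 1 ≠ 0) (g : SL) :
    ∃ a ∈ torus (companion t), ∃ c : Multiplicative F, ∃ a' ∈ torus (companion t),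
      g = a * uu c * a' := by
  set x : SL := companion t with hx
  set y : SL := g * x * g⁻¹ with hy
  have hneg : ∀ w : F, -w = w := fun w => by linear_combination (-w) * h2
  have htr : y.1 0 0 + y.1 1 1 = t := by
    have := slTr_conj x g
    simp only [slTr, hx, companion, mk2_00, mk2_11, zero_add] at this
    exact this
  obtain ⟨c, hc⟩ := exists_sqrt h2 (y.1 0 1 + y.1 1 0 + t * y.1 0 0)
  set b : SL := uu (Multiplicative.ofAdd c) with hb
  have hd := det_eq y
  obtain ⟨dp, hdp⟩ : ∃ v, v = y.1 0 0 + c := ⟨_, rfl⟩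
  obtain ⟨dr, hdr⟩ : ∃ v, v = y.1 0 1 + (c * c + c * t + 1) := ⟨_, rfl⟩
  have main : ∃ a : SL, a ∈ torus x ∧ a * y * a⁻¹ = b * x * b⁻¹ := by
    by_cases h0 : dp = 0 ∧ dr = 0
    · refine ⟨1, (torus x).one_mem, ?_⟩
      rw [one_mul, inv_one, mul_one, eq_mul_inv_iff_mul_eq]
      obtain ⟨rfl, rfl⟩ := h0
      apply slExt <;>
        simp [mul_apply', hb, uu, hx, companion]
      · linear_combination (-hdp) + c * 0 + (y.1 0 0) * 0 + c * 0 + (-c) * h2
      · linear_combination (-c) * hdp - hdr + (c * c + c * t) * h2 + h2 - c * t * h2 + (-1 - c * t - 2 * c ^ 2) * h2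
      · linear_combination hc - t * hdp - hdr + (y.1 1 0 - 1) * 0 + (y.1 0 1 + t * y.1 0 0 + c * t) * h2 + (-1 + y.1 1 0 - y.1 0 1 - t * y.1 0 0 - 2 * t * c - c ^ 2) * h2
      · linear_combination htr - hdp + c * (hc - t * hdp - hdr) + (c * (y.1 0 1 + t * y.1 0 0 + c * t)) * h2 + (y.1 1 0 * c - c - c * t * y.1 0 0 - c * y.1 0 1 - 2 * c ^ 2 * t - c ^ 3 - y.1 0 0) * h2
    · obtain ⟨l, hl1, hl2⟩ : ∃ l, l * dp = y.1 1 0 + (c * c + c * t + 1) ∧
          l * dr = dp + t + t * (c * c + c * t + 1) := by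
        have cross : (y.1 1 0 + (c * c + c * t + 1)) * dr =
            (dp + t + t * (c * c + c * t + 1)) * dp := by
          rw [hdp, hdr]
          linear_combination -hd + (c*c + c*t + 1) * hc + y.1 0 0 * htr + (-y.1 0 0 * t + c*c*0) * h2 + (y.1 1 0 + y.1 1 0 * c * t + y.1 1 0 * c ^ 2 + c * t * y.1 0 1 - c * y.1 0 0 + c ^ 2 * y.1 0 1 + t * y.1 0 0 + y.1 0 1 - y.1 0 0 ^ 2) * h2
        by_cases hp : dp = 0
        · have hr : dr ≠ 0 := fun h => h0 ⟨hp, h⟩
          rw [hp, mul_zero] at cross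
          refine ⟨_, ?_, div_mul_cancel₀ _ hr⟩
          rw [hp, mul_zero, (mul_eq_zero.mp cross).resolve_right hr]
        · refine ⟨_, div_mul_cancel₀ _ hp, ?_⟩
          field_simp
          linear_combination cross
      have hD : l * l + l * t + 1 ≠ 0 := by
        rw [mul_comm l t]; exact hno l
      obtain ⟨m, hm⟩ := exists_sqrt h2 (l * l + l * t + 1)⁻¹
      have hm' : m * m * (l * l + l * t + 1) = 1 := by rw [hm, inv_mul_cancel₀ hD]
      let a : SL := mk2 (m * l) m m (m * l + m * t) (by linear_combination hm' - m * m * h2)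
      refine ⟨a, mem_torus.mpr ?_, ?_⟩
      · apply slExt <;> simp [mul_apply', a, hx, companion, hneg] <;> ring
      · rw [mul_inv_eq_iff_eq_mul]
        apply slExt <;> simp [mul_apply', Matrix.adjugate_fin_two, a, hb, uu, hx, companion, hneg]
        · linear_combination m * hl1 - m * l * hdp + m * (y.1 1 0 - c * l) * h2
        · linear_combination m * hl2 - m * l * hdr + m * hdp + m * htr + m * (t - l * (c * c + c * t + 1)) * h2
        · linear_combination m * (hl2 + t * hl1 + l * (hc + hdr + t * hdp) + hdp) +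
            m * (y.1 0 0 + y.1 0 0 * l * t - l * t * dp + l * t * c + l * y.1 1 0 + l * y.1 0 1 -
              l * dr + t + t * y.1 1 0 + t * c ^ 2 + t ^ 2 * c) * h2
        · linear_combination m * (hl1 + hc + (l + t) * htr + l * hdp) +
            m * (y.1 0 1 - l * dp + y.1 1 0) * h2
  obtain ⟨a, ha, hab⟩ := main
  refine ⟨a⁻¹, (torus x).inv_mem ha, Multiplicative.ofAdd c, b⁻¹ * a * g, mem_torus.mpr ?_,
    by rw [← hb]; group⟩
  calc b⁻¹ * a * g * x = b⁻¹ * (a * y * a⁻¹) * a * g := by rw [hy]; group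
    _ = x * (b⁻¹ * a * g) := by rw [hab]; group

/-- `PSL₂(2^t) = ABA`. -/
theorem exists_aba (h2 : 2 ∣ q) (h4 : 4 ≤ q) :
    ∃ A B : Subgroup (Matrix.ProjectiveSpecialLinearGroup (Fin 2) F),
      IsCyclic A ∧ Nat.card A = q + 1 ∧ IsMulCommutative B ∧ (∀ b ∈ B, b * b = 1) ∧
        Nat.card B = q ∧
        ∀ g : Matrix.ProjectiveSpecialLinearGroup (Fin 2) F, ∃ a ∈ A, ∃ b ∈ B, ∃ c ∈ A,
          g = a * b * c := by
  have h20 : (2 : F) = 0 := ClassSizeValues.cast_two_zero_iff.mpr h2
  haveI : CharP F 2 := CharTwo.of_one_ne_zero_of_two_eq_zero one_ne_zero h20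
  haveI : Fact (Nat.Prime 2) := ⟨Nat.prime_two⟩
  obtain ⟨r, hr, hr2⟩ := ClassSizeValues.exists_r (F := F) h4
  obtain ⟨t, -, ht⟩ := exists_nonsplit_trace hr hr2
  have hno : ∀ s : F, s * s + t * s + 1 ≠ 0 := fun s hs => by
    have hs0 : s ≠ 0 := by rintro rfl; simp at hs
    refine ht (-s) (neg_ne_zero.mpr hs0) ?_
    apply mul_right_cancel₀ hs0
    rw [add_mul, inv_neg, neg_mul, neg_mul, inv_mul_cancel₀ hs0]
    linear_combination hs
  have hneg : (negOne : SL) = 1 := by
    apply slExt <;> simp [one_apply'] <;> linear_combination -h20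
  have hinj : Function.Injective (proj (F := F)) := fun g g' h => by
    rcases proj_eq_iff.mp h with h' | h'
    · exact h'.symm
    · rw [hneg, mul_one] at h'
      exact h'.symm
  have hns : NonScalar (companion t) := Or.inr (Or.inl (by simp [companion]))
  have hcard : Nat.card (torus (companion t)) = q + 1 := by
    rw [card_torus_conic hns]
    exact card_conic_noroot (by simpa [slTr, companion] using hno)
  haveI : IsCyclic (torus (companion t)) :=
    Lib.Linear.isCyclic_of_comm_of_coprime 2 _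
      (fun a ha b hb => commute_of_commute hns (mem_torus.mp ha) (mem_torus.mp hb))
      (by rw [hcard, Nat.coprime_two_right, Nat.odd_iff]; omega)
  have hB : Function.Injective (proj.comp (uu (F := F))) := hinj.comp uu_injective
  refine ⟨(torus (companion t)).map proj, (proj.comp uu).range, ?_, ?_, ?_, ?_, ?_, fun g => ?_⟩
  · exact ((torus (companion t)).equivMapOfInjective proj hinj).isCyclic.mp inferInstance
  · rw [← hcard]
    exact Nat.card_congr ((torus (companion t)).equivMapOfInjective proj hinj).symm.toEquiv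
  · refine ⟨⟨?_⟩⟩
    rintro ⟨_, a, rfl⟩ ⟨_, b, rfl⟩
    refine Subtype.ext ?_
    simp only [Subgroup.coe_mul, ← map_mul, mul_comm a b]
  · rintro _ ⟨a, rfl⟩
    rw [← map_mul, map_eq_one_iff _ hB]
    exact CharTwo.add_self_eq_zero (R := F) a.toAdd
  · rw [← Nat.card_eq_fintype_card (α := F)]
    exact (Nat.card_congr (MonoidHom.ofInjective hB).toEquiv).symm
  · obtain ⟨g, rfl⟩ := proj_surjective g
    obtain ⟨a, ha, c, a', ha', rfl⟩ := factor h20 hno g
    exact ⟨proj a, ⟨a, ha, rfl⟩, proj (uu c), ⟨c, rfl⟩, proj a', ⟨a', ha', rfl⟩,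
      by rw [map_mul, map_mul]⟩

end Cfsg.Agent.Lib.PSLTwo.TripleFactor
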